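import Mathlib
import Cfsg.Agent.KFacts.RgdCharP
import Cfsg.Agent.KFacts.RgdOpp
import Cfsg.Agent.KFacts.RgdAut

/-!
# `p`-groups of automorphisms normalising an `r`-subgroup of a group with a root group datum of characteristic `r`

Let `E` be a `p`-group of automorphisms of `Y` (`p ≠ r`) which normalises a nontrivial `r`-subgroup. Then `E` normalises the
unipotent radicals of two opposite parabolic subgroups (`exists_pair`).

* `Rad r V` : `V` is the largest normal `r`-subgroup of its normaliser;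
* `exists_fixed_conj` : a `V`-orbit of subgroups permuted by `E` contains a fixed one;
* `rad_VJ`, `rad_VNJ`, `eq_VJ_of_rad` : the radicals are the `V_J` up to conjugation;
* `exists_conj_VNJ` : automorphisms fixing `V_J` permute the opposite radicals.
-/

set_option autoImplicit false
set_option linter.unusedSectionVars false

namespace Cfsg.Agent.H233.Opp

open CoxeterSystem Cfsg.Agent.ChevalleyStructure.CoxeterGeom Cfsg.Agent.Tits.Roots Cfsg.Agent.Tits.Core
  Cfsg.Agent.Tits.RootComb Cfsg.Agent.Tits.Exchange Cfsg.Agent.Nodes.Reps Cfsg.Agent.Nodes.BNOf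
  Cfsg.Agent.Nodes.StabComb Cfsg.Agent.Nodes.Bruhat Cfsg.Agent.Nodes.OppDec Cfsg.Agent.Nodes.LeviDec
  Cfsg.Agent.Nodes.NormX Cfsg.Agent.Nodes.NormalForm Cfsg.Agent.KFacts.RgdPar Cfsg.Agent.KFacts.RgdVJ
  Cfsg.Agent.KFacts.RgdCharP Cfsg.Agent.KFacts.RgdOpp

/-! ### general facts -/

section General

variable {Y : Type*} [Group Y] [Finite Y] {p r : ℕ} [hp : Fact p.Prime] [hr : Fact r.Prime]

/-- `V` is the largest normal `r`-subgroup of its normaliser. -/
def Rad (r : ℕ) {Y : Type*} [Group Y] (V : Subgroup Y) : Prop :=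
  IsPGroup r V ∧ ∀ Z : Subgroup Y, IsPGroup r Z → Z ≤ Subgroup.normalizer (V : Set Y) →
    Subgroup.normalizer (V : Set Y) ≤ Subgroup.normalizer (Z : Set Y) → Z ≤ V

theorem normalizer_map {Y Y' : Type*} [Group Y] [Group Y'] (e : Y ≃* Y') (V : Subgroup Y) :
    Subgroup.normalizer ((V.map e.toMonoidHom : Subgroup Y') : Set Y') =
      (Subgroup.normalizer (V : Set Y)).map e.toMonoidHom := by
  ext x
  rw [Subgroup.mem_map_equiv, Subgroup.mem_normalizer_iff, Subgroup.mem_normalizer_iff]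
  constructor
  · intro h1 y
    have h2 := h1 (e y)
    rw [Subgroup.mem_map_equiv, Subgroup.mem_map_equiv, map_mul, map_mul, map_inv, e.symm_apply_apply] at h2
    exact h2
  · intro h1 y
    rw [Subgroup.mem_map_equiv, Subgroup.mem_map_equiv, map_mul, map_mul, map_inv]
    exact h1 _

theorem map_map_symm {Y Y' : Type*} [Group Y] [Group Y'] (e : Y ≃* Y') (V : Subgroup Y') :
    (V.map e.symm.toMonoidHom).map e.toMonoidHom = V := by
  ext x
  rw [Subgroup.mem_map_equiv, Subgroup.mem_map_equiv]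
  simp

theorem Rad.map {Y Y' : Type*} [Group Y] [Group Y'] {r : ℕ} (e : Y ≃* Y') {V : Subgroup Y} (hV : Rad r V) :
    Rad r (V.map e.toMonoidHom) := by
  refine ⟨hV.1.map _, fun Z hZ h1 h2 => ?_⟩
  have h3 : Z = (Z.map e.symm.toMonoidHom).map e.toMonoidHom := (map_map_symm e Z).symm
  rw [h3]
  refine Subgroup.map_mono (hV.2 _ (hZ.map _) ?_ ?_)
  · have h4 := Subgroup.map_mono (f := e.symm.toMonoidHom) h1
    rw [normalizer_map] at h4
    have h5 := map_map_symm e.symm (Subgroup.normalizer (V : Set Y))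
    rw [MulEquiv.symm_symm] at h5
    rwa [h5] at h4
  · have h4 := Subgroup.map_mono (f := e.symm.toMonoidHom) h2
    rw [normalizer_map] at h4
    have h5 := map_map_symm e.symm (Subgroup.normalizer (V : Set Y))
    rw [MulEquiv.symm_symm] at h5
    rw [h5] at h4
    rw [normalizer_map]
    exact h4

theorem lt_inf_normalizer {K V : Subgroup Y} (hV : IsPGroup r V) (hKV : K < V) :
    K < V ⊓ Subgroup.normalizer (K : Set Y) := by
  have hnil : Group.IsNilpotent V := hV.isNilpotent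
  have h1 : K.subgroupOf V < ⊤ := by
    rw [lt_top_iff_ne_top]
    intro h2
    rw [Subgroup.subgroupOf_eq_top] at h2
    exact absurd (lt_of_lt_of_le hKV h2) (lt_irrefl _)
  have h2 := (Group.normalizerCondition_of_isNilpotent (h := hnil)) _ h1
  obtain ⟨y, hy, hyU⟩ := SetLike.exists_of_lt h2
  refine lt_of_le_of_ne (le_inf hKV.le Subgroup.le_normalizer) fun h3 => hyU ?_
  rw [Subgroup.mem_subgroupOf]
  rw [h3]
  refine Subgroup.mem_inf.2 ⟨y.2, ?_⟩
  rw [Subgroup.mem_normalizer_iff]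
  intro x
  have h4 := Subgroup.mem_normalizer_iff.1 hy
  constructor
  · intro hx
    have := (h4 ⟨x, hKV.le hx⟩).1 (Subgroup.mem_subgroupOf.2 hx)
    exact Subgroup.mem_subgroupOf.1 this
  · intro hx
    have hxV : x ∈ V := by
      have h5 := hKV.le hx
      have h6 : x = (y : Y)⁻¹ * (y * x * (y : Y)⁻¹) * y := by group
      rw [h6]
      exact mul_mem (mul_mem (inv_mem y.2) h5) y.2
    have := (h4 ⟨x, hxV⟩).2 (Subgroup.mem_subgroupOf.2 hx)
    exact Subgroup.mem_subgroupOf.1 this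

/-- A radical subgroup inside an `r`-subgroup `V` with `N(K) ≤ N(V)` is `V`. -/
theorem Rad.eq_of_le {K V : Subgroup Y} (hK : Rad r K) (hV : IsPGroup r V) (hKV : K ≤ V)
    (hN : Subgroup.normalizer (K : Set Y) ≤ Subgroup.normalizer (V : Set Y)) : K = V := by
  by_contra hne
  have h1 := lt_inf_normalizer hV (lt_of_le_of_ne hKV hne)
  have h2 : V ⊓ Subgroup.normalizer (K : Set Y) ≤ K := by
    refine hK.2 _ (hV.to_le inf_le_left) inf_le_right ?_
    intro g hg
    have hgV := Subgroup.mem_normalizer_iff.1 (hN hg)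
    rw [Subgroup.mem_normalizer_iff]
    intro x
    rw [Subgroup.mem_inf, Subgroup.mem_inf, ← hgV]
    refine and_congr_right fun _ => ?_
    constructor
    · intro hx
      exact mul_mem (mul_mem hg hx) (inv_mem hg)
    · intro hx
      have h6 : x = g⁻¹ * (g * x * g⁻¹) * g := by group
      rw [h6]
      exact mul_mem (mul_mem (inv_mem hg) hx) hg
  exact absurd (lt_of_lt_of_le h1 h2) (lt_irrefl _)

/-- `O_r(N(K))` as a subgroup of the group. -/
noncomputable def oN (r : ℕ) {Y : Type*} [Group Y] (K : Subgroup Y) : Subgroup Y :=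
  (pCore r ↥(Subgroup.normalizer (K : Set Y))).map (Subgroup.normalizer (K : Set Y)).subtype

theorem oN_le {Y : Type*} [Group Y] {K : Subgroup Y} : oN r K ≤ Subgroup.normalizer (K : Set Y) :=
  Subgroup.map_subtype_le _

theorem isPGroup_oN {K : Subgroup Y} : IsPGroup r (oN r K) := (Lib.Cores.pCore_isPGroup r).map _

theorem le_oN {K Z : Subgroup Y} (hZ : IsPGroup r Z) (h1 : Z ≤ Subgroup.normalizer (K : Set Y))
    (h2 : Subgroup.normalizer (K : Set Y) ≤ Subgroup.normalizer (Z : Set Y)) : Z ≤ oN r K := by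
  have h3 : Z.subgroupOf (Subgroup.normalizer (K : Set Y)) ≤ pCore r ↥(Subgroup.normalizer (K : Set Y)) := by
    refine Lib.Cores.le_pCore ⟨fun x hx g => ?_⟩ (hZ.comap_subtype)
    rw [Subgroup.mem_subgroupOf] at hx ⊢
    exact (Subgroup.mem_normalizer_iff.1 (h2 g.2) x).1 hx
  intro z hz
  exact ⟨⟨z, h1 hz⟩, h3 (Subgroup.mem_subgroupOf.2 hz), rfl⟩

theorem normalizer_le_oN {K : Subgroup Y} : Subgroup.normalizer (K : Set Y) ≤ Subgroup.normalizer (oN r K : Set Y) := by
  have key : ∀ g ∈ Subgroup.normalizer (K : Set Y), ∀ x ∈ oN r K, g * x * g⁻¹ ∈ oN r K := by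
    rintro g hg _ ⟨x, hx, rfl⟩
    have hn : (pCore r ↥(Subgroup.normalizer (K : Set Y))).Normal := Lib.Cores.pCore_normal r
    exact ⟨_, hn.conj_mem x hx ⟨g, hg⟩, rfl⟩
  intro g hg
  rw [Subgroup.mem_normalizer_iff]
  intro x
  refine ⟨key g hg x, fun hx => ?_⟩
  have h1 := key g⁻¹ (inv_mem hg) _ hx
  have h6 : g⁻¹ * (g * x * g⁻¹) * g⁻¹⁻¹ = x := by group
  rwa [h6] at h1

theorem le_oN_self {K : Subgroup Y} (hK : IsPGroup r K) : K ≤ oN r K :=
  le_oN hK Subgroup.le_normalizer le_rfl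

theorem oN_map (α : MulAut Y) {K : Subgroup Y} (hα : K.map α.toMonoidHom = K) : (oN r K).map α.toMonoidHom = oN r K := by
  have hN : (Subgroup.normalizer (K : Set Y)).map α.toMonoidHom = Subgroup.normalizer (K : Set Y) := by
    rw [← normalizer_map, hα]
  have h1 : (oN r K).map α.toMonoidHom ≤ oN r K := by
    refine le_oN (isPGroup_oN.map _) ?_ ?_
    · rw [← hN]
      exact Subgroup.map_mono oN_le
    · rw [normalizer_map]
      conv_lhs => rw [← hN]
      exact Subgroup.map_mono normalizer_le_oN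
  refine Subgroup.eq_of_le_of_card_ge h1 ?_
  exact (Nat.card_congr ((oN r K).equivMapOfInjective _ α.injective).toEquiv).le

/-- An invariant `r`-subgroup lies in an invariant radical `r`-subgroup. -/
theorem exists_rad {E : Subgroup (MulAut Y)} {K : Subgroup Y} (hK : IsPGroup r K)
    (hE : ∀ α ∈ E, K.map α.toMonoidHom = K) :
    ∃ V : Subgroup Y, K ≤ V ∧ Rad r V ∧ ∀ α ∈ E, V.map α.toMonoidHom = V := by
  classical
  have hfin : (Set.univ : Set (Subgroup Y)).Finite := Set.toFinite _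
  obtain ⟨V, ⟨hKV, hVr, hVE⟩, hmax⟩ := (Set.toFinite {V : Subgroup Y | K ≤ V ∧ IsPGroup r V ∧
    ∀ α ∈ E, V.map α.toMonoidHom = V}).exists_maximalFor (fun V : Subgroup Y => V) _ ⟨K, le_rfl, hK, hE⟩
  refine ⟨V, hKV, ⟨hVr, fun Z hZ h1 h2 => ?_⟩, hVE⟩
  have h3 : V ≤ oN r V := le_oN_self hVr
  have h4 := hmax (j := oN r V) ⟨hKV.trans h3, isPGroup_oN, fun α hα => oN_map α (hVE α hα)⟩ h3
  exact (le_oN hZ h1 h2).trans h4

/-- A `V`-orbit of subgroups permuted by `E` contains a fixed one. -/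
theorem exists_fixed_conj (hpr : p ≠ r) {E : Subgroup (MulAut Y)} (hE : IsPGroup p E) {V V' : Subgroup Y}
    (hV : IsPGroup r V) (hEV : ∀ α ∈ E, V.map α.toMonoidHom = V)
    (h : ∀ α ∈ E, ∃ v ∈ V, V'.map α.toMonoidHom = cj v V') :
    ∃ v ∈ V, ∀ α ∈ E, (cj v V').map α.toMonoidHom = cj v V' := by
  classical
  have hcomm : ∀ (α : MulAut Y) (v : Y) (A : Subgroup Y),
      (cj v A).map α.toMonoidHom = cj (α v) (A.map α.toMonoidHom) := by
    intro α v A
    ext x
    rw [Subgroup.mem_map_equiv, mem_cj, mem_cj, Subgroup.mem_map_equiv, map_mul, map_mul, map_inv]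
    have h1 : α.symm (α v) = v := α.symm_apply_apply v
    rw [h1]
  let O : Set (Subgroup Y) := {A | ∃ v ∈ V, A = cj v V'}
  -- the action of `E`
  have hact : ∀ α ∈ E, ∀ A ∈ O, A.map α.toMonoidHom ∈ O := by
    rintro α hα _ ⟨v, hv, rfl⟩
    obtain ⟨u, hu, e⟩ := h α hα
    refine ⟨α v * u, mul_mem ?_ hu, ?_⟩
    · have h1 := hEV α hα
      rw [← h1]
      exact ⟨v, hv, rfl⟩
    · rw [hcomm, e, cj_mul]
  let act : MulAction E O :=
    { smul := fun α A => ⟨A.1.map (α.1).toMonoidHom, hact α.1 α.2 A.1 A.2⟩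
      one_smul := by
        rintro ⟨A, hA⟩
        apply Subtype.ext
        show A.map (1 : MulAut Y).toMonoidHom = A
        exact Subgroup.map_id A
      mul_smul := by
        rintro α β ⟨A, hA⟩
        apply Subtype.ext
        show A.map ((α.1 * β.1 : MulAut Y)).toMonoidHom = (A.map (β.1).toMonoidHom).map (α.1).toMonoidHom
        rw [Subgroup.map_map]
        rfl }
  -- the number of elements of `O`
  have hO : ¬ p ∣ Nat.card O := by
    let S : Subgroup V :=
      { carrier := {v | cj (v : Y) V' = V'}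
        mul_mem' := by
          intro a b ha hb
          show cj ((a * b : V) : Y) V' = V'
          rw [Subgroup.coe_mul, cj_mul, hb, ha]
        one_mem' := by
          show cj ((1 : V) : Y) V' = V'
          rw [Subgroup.coe_one, cj_one]
        inv_mem' := by
          intro a ha
          show cj ((a⁻¹ : V) : Y) V' = V'
          have ha' : cj (a : Y) V' = V' := ha
          rw [Subgroup.coe_inv]
          conv_lhs => rw [← ha']
          rw [cj_inv_cj] }
    have hS : ∀ v : V, v ∈ S ↔ cj (v : Y) V' = V' := fun v => Iff.rfl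
    have e : (V ⧸ S) ≃ O :=
      Equiv.ofBijective (Quotient.lift (fun v : V => (⟨cj (v : Y) V', v, v.2, rfl⟩ : O)) (by
        intro a b hab
        have h1 : a⁻¹ * b ∈ S := QuotientGroup.leftRel_apply.1 hab
        rw [hS] at h1
        apply Subtype.ext
        show cj (a : Y) V' = cj (b : Y) V'
        have h2 : (b : Y) = a * ((a⁻¹ * b : V) : Y) := by push_cast; group
        rw [h2, cj_mul, h1])) (by
        constructor
        · intro x y
          induction x using Quotient.inductionOn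
          induction y using Quotient.inductionOn
          rename_i a b
          intro hab
          have h1 : cj (a : Y) V' = cj (b : Y) V' := congrArg Subtype.val hab
          refine Quotient.sound (QuotientGroup.leftRel_apply.2 ?_)
          show cj ((a⁻¹ * b : V) : Y) V' = V'
          push_cast
          rw [cj_mul, ← h1, cj_inv_cj]
        · rintro ⟨_, v, hv, rfl⟩
          exact ⟨Quotient.mk _ ⟨v, hv⟩, rfl⟩)
    rw [← Nat.card_congr e]
    intro hd
    have h1 : Nat.card (V ⧸ S) ∣ Nat.card V := Subgroup.card_quotient_dvd_card S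
    obtain ⟨m, hm⟩ := IsPGroup.iff_card.1 hV
    have h2 := (hd.trans h1)
    rw [hm] at h2
    exact hpr ((Nat.prime_dvd_prime_iff_eq hp.out hr.out).1 (hp.out.dvd_of_dvd_pow h2))
  obtain ⟨⟨_, v, hv, rfl⟩, hA⟩ := hE.nonempty_fixed_point_of_prime_not_dvd_card O hO
  refine ⟨v, hv, fun α hα => ?_⟩
  exact congrArg Subtype.val (hA ⟨α, hα⟩)

end General

/-! ### root group data -/

section RGD

variable {I W Y : Type*} [Fintype I] [DecidableEq I] [Group W] [Group Y] {M : CoxeterMatrix I}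
  {cs : CoxeterSystem M W} {A : I → I → ℤ} {h : IsCartan M A} {r : ℕ} {T : Subgroup Y} {n : I → Y}
  {X : (I → ℤ) → Subgroup Y}

theorem VJ_opp (J : Set I) : VJ cs h (fun x => X (-x)) J = VNJ cs h X J := by
  show RGD.Sup (fun x => X (-x)) (NotJ cs h J) = RGD.Sup X (NotNJ cs h J)
  rw [KFacts.RgdOpp.Sup_opp]
  rfl

theorem VNJ_opp (J : Set I) : VNJ cs h (fun x => X (-x)) J = VJ cs h X J := by
  show RGD.Sup (fun x => X (-x)) (NotNJ cs h J) = RGD.Sup X (NotJ cs h J)
  rw [KFacts.RgdOpp.Sup_opp]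
  congr 1
  ext x
  show -(-x) ∈ NotJ cs h J ↔ x ∈ NotJ cs h J
  rw [neg_neg]

variable (R : RGD cs h r T n X)

include R

variable [Finite W] [Finite Y] [hr : Fact r.Prime] (hG : GG cs h T X = ⊤)

include hG

theorem normalizer_VJ_eq (J : Set I) : Subgroup.normalizer (VJ cs h X J : Set Y) = PJ cs h T X J := by
  have := normalizer_VJ R J
  rwa [hG, inf_top_eq] at this

theorem rad_VJ (J : Set I) : Rad r (VJ cs h X J) := by
  refine ⟨isPGroup_VJ R J, fun Z hZ h1 h2 => ?_⟩
  rw [normalizer_VJ_eq R hG] at h1 h2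
  have hU : IsPGroup r ((RGD.Sup X (RGD.Pos cs h)) ⊔ Z : Subgroup Y) := by
    refine IsPGroup.to_sup_of_normal_right' R.isPGroup_Upos hZ ?_
    exact (RGD.U_le_B.trans (B_le_PJ (T := T) (J := J))).trans h2
  have h3 := eq_U_of_isPGroup R hU le_sup_left (by rw [hG]; exact le_top)
  have hZU : Z ≤ RGD.Sup X (RGD.Pos cs h) := by
    rw [← h3]; exact le_sup_right
  intro z hz
  obtain ⟨t, ht, v, hv, e⟩ := mem_TV R (J := J) (c := z) (fun g hg => by
    refine RGD.U_le_B (hZU ?_)
    exact (Subgroup.mem_normalizer_iff.1 (h2 hg) z).1 hz)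
  have h4 : t ∈ RGD.Sup X (RGD.Pos cs h) := by
    have h5 : t = z * v⁻¹ := by rw [e]; group
    rw [h5]
    exact mul_mem (hZU hz) (inv_mem (VJ_le_U J hv))
  have h5 : t = 1 := eq_one_of_mem_U_of_mem_BN R h4 (T_le_BN ht)
  rw [e, h5, one_mul]
  exact hv

theorem rad_VNJ (J : Set I) : Rad r (VNJ cs h X J) := by
  have h1 := rad_VJ (opp R) (by rw [GG_opp]; exact hG) J
  rwa [VJ_opp] at h1

/-- **Radical `r`-subgroups are unipotent radicals of parabolic subgroups.** -/
theorem eq_VJ_of_rad (hBT : BT cs h r T X) {V : Subgroup Y} (hV : Rad r V) (hV1 : V ≠ ⊥) :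
    ∃ (g : Y) (J : Set I), J ≠ Set.univ ∧ V = cj g (VJ cs h X J) := by
  obtain ⟨g, J, hJ, h1, h2⟩ := hBT V hV.1 hV1
  refine ⟨g, J, hJ, hV.eq_of_le ((isPGroup_VJ R J).map _) h1 ?_⟩
  rw [normalizer_cj, normalizer_VJ_eq R hG]
  exact h2

omit hG [Finite Y] hr in
theorem mem_NotNJ_of_inf {J : Set I} {x : I → ℤ} (hx : IsRoot cs h x) (h1 : X x ⊓ PJ cs h T X J = ⊥) :
    x ∈ NotNJ cs h J := by
  have hnot : ¬ X x ≤ PJ cs h T X J := by
    intro h2
    rw [inf_eq_left.2 h2] at h1
    exact X_ne_bot R hx h1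
  have hneg : ∀ z, IsRoot cs h z → 0 ≤ z → z ∉ RootsJ cs h J → z ∈ NotJ cs h J := by
    intro z hz h0 hJ
    refine ⟨hz, h0, ?_⟩
    by_contra hcon
    push Not at hcon
    exact hJ ⟨hz, fun k hk => le_antisymm (hcon k hk) (h0 k)⟩
  have hxJ : x ∉ RootsJ cs h J := fun h2 => hnot ((X_le_LJ h2).trans LJ_le_PJ)
  rcases hx.pos_or_neg with h2 | h2
  · exact absurd ((RGD.le_Sup (hneg x hx h2 hxJ)).trans VJ_le_PJ) hnot
  · refine hneg (-x) hx.neg (neg_nonneg.2 h2) fun h3 => hxJ ?_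
    have := RootsJ.neg h3
    rwa [neg_neg] at this

/-- An automorphism fixing `V_J` maps the opposite radical to a `V_J`-conjugate. -/
theorem exists_conj_VNJ (hBT : BT cs h r T X) {J : Set I} (hJ : VNJ cs h X J ≠ ⊥) (α : MulAut Y)
    (hα : (VJ cs h X J).map α.toMonoidHom = VJ cs h X J) :
    ∃ v ∈ VJ cs h X J, (VNJ cs h X J).map α.toMonoidHom = cj v (VNJ cs h X J) := by
  have hP : (PJ cs h T X J).map α.toMonoidHom = PJ cs h T X J := by
    rw [← normalizer_VJ_eq R hG, ← normalizer_map, hα]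
  have hrad : Rad r ((VNJ cs h X J).map α.toMonoidHom) := (rad_VNJ R hG J).map α
  have hne : (VNJ cs h X J).map α.toMonoidHom ≠ ⊥ := by
    intro h1
    exact hJ ((Subgroup.map_eq_bot_iff_of_injective _ α.injective).1 h1)
  obtain ⟨g, K, -, e⟩ := eq_VJ_of_rad R hG hBT hrad hne
  have hg : g ∈ GG cs h T X := by rw [hG]; exact Subgroup.mem_top _
  obtain ⟨w, b₁, hb₁, k, hk, b₂, hb₂, rfl⟩ := (mem_GG R).1 hg
  -- `V' = cj (b₁ k) V_K`
  have e1 : (VNJ cs h X J).map α.toMonoidHom = cj b₁ (cj k (VJ cs h X K)) := by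
    rw [e, cj_mul, cj_mul, mem_normalizer_iff_cj.1 (PJ_le_normalizer_VJ R K (B_le_PJ hb₂))]
  -- `V' ∩ P_J = 1`
  have hinf : (VNJ cs h X J).map α.toMonoidHom ⊓ PJ cs h T X J = ⊥ := by
    rw [← hP, ← Subgroup.map_inf _ _ _ α.injective, VNJ_inf_PJ R J, Subgroup.map_bot]
  have hinf' : cj k (VJ cs h X K) ⊓ PJ cs h T X J = ⊥ := by
    rw [Subgroup.eq_bot_iff_forall]
    rintro x ⟨h1, h2⟩
    have h3 : b₁ * x * b₁⁻¹ ∈ (VNJ cs h X J).map α.toMonoidHom ⊓ PJ cs h T X J := by
      rw [e1]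
      refine Subgroup.mem_inf.2 ⟨conj_mem_cj.2 h1, ?_⟩
      exact mul_mem (mul_mem (B_le_PJ hb₁) h2) (inv_mem (B_le_PJ hb₁))
    rw [hinf, Subgroup.mem_bot] at h3
    have h4 : x = b₁⁻¹ * (b₁ * x * b₁⁻¹) * b₁ := by group
    rw [h4, h3]; group
  have hle : cj k (VJ cs h X K) ≤ VNJ cs h X J := by
    refine cj_Sup_le R hk (fun x hx => hx.1) fun x hx => ?_
    refine mem_NotNJ_of_inf R (T := T) (hx.1.act w) ?_
    rw [eq_bot_iff, ← hinf']
    refine inf_le_inf_right _ ?_
    rw [← R.conj_rp hk hx.1]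
    exact cj_mono k (RGD.le_Sup hx)
  have hcard : Nat.card ((VNJ cs h X J).map α.toMonoidHom) = Nat.card (VNJ cs h X J) :=
    (Nat.card_congr ((VNJ cs h X J).equivMapOfInjective _ α.injective).toEquiv).symm
  have heq : cj k (VJ cs h X K) = VNJ cs h X J := by
    refine Subgroup.eq_of_le_of_card_ge hle ?_
    rw [← hcard, e1]
    exact (Nat.card_congr ((cj k (VJ cs h X K)).equivMapOfInjective _ (MulAut.conj b₁).injective).toEquiv).symm.le
  -- `b₁ = v l`
  obtain ⟨l, hl, v, hv, e2⟩ := (mem_PJ R).1 (inv_mem (B_le_PJ (T := T) (J := J) hb₁))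
  have hb : b₁ = v⁻¹ * l⁻¹ := by rw [← inv_inv b₁, e2, mul_inv_rev]
  refine ⟨v⁻¹, inv_mem hv, ?_⟩
  rw [e1, heq, hb, cj_mul, mem_normalizer_iff_cj.1 (LJ_le_normalizer_VNJ R J (inv_mem hl))]

end RGD

end Cfsg.Agent.H233.Opp
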