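import Mathlib
import Cfsg.Agent.KFacts.RgdLieCharP
import Cfsg.Agent.H233.Opp
import Cfsg.Agent.H233.Core

/-!
# Noncyclic `p`-groups normalising an `r`-subgroup of a group of Lie type of characteristic `r ≠ p`

* `exists_pair` : a `p`-group `E` of automorphisms of the simple group `Y` (`HasFilt r Y`) which normalises a nontrivial
  `r`-subgroup normalises two `r`-subgroups `V`, `V'` with `⟨V, V'⟩ = Y`;
* `inv_le` : `E` noncyclic elementary abelian in the strongly `p`-embedded subgroup `H`, `V` an `E`-invariant `p'`-group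
  implies `V ≤ H`;
* `le_of_local` : `L ⊴ G` simple, `HasFilt r L`, `E` a noncyclic elementary abelian `p`-subgroup of `H` normalising a nontrivial
  `r`-subgroup of `L` (field automorphisms allowed) implies `L ≤ H`.
-/

set_option autoImplicit false
set_option linter.unusedSectionVars false

namespace Cfsg.Agent.H233.Rloc

open CoxeterSystem Cfsg.Agent.ChevalleyStructure.CoxeterGeom Cfsg.Agent.Tits.Roots
  Cfsg.Agent.Nodes.Reps Cfsg.Agent.Nodes.BNOf Cfsg.Agent.Nodes.StabComb Cfsg.Agent.Nodes.Bruhat Cfsg.Agent.Nodes.OppDec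
  Cfsg.Agent.Nodes.LeviDec Cfsg.Agent.Nodes.NormX Cfsg.Agent.KFacts.RgdCharP Cfsg.Agent.KFacts.RgdFilt
  Cfsg.Agent.H233.Opp

section Gen

variable {I W Y : Type*} [Fintype I] [DecidableEq I] [Group W] [Group Y] {M : CoxeterMatrix I}
  {cs : CoxeterSystem M W} {A : I → I → ℤ} {h : IsCartan M A} {r : ℕ} {T : Subgroup Y} {n : I → Y}
  {X : (I → ℤ) → Subgroup Y}

/-- two opposite radicals generate a subgroup normalised by everything -/
theorem GG_le_normalizer (R : RGD cs h r T n X) [Finite W] (J : Set I) :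
    GG cs h T X ≤ Subgroup.normalizer ((VJ cs h X J ⊔ VNJ cs h X J : Subgroup Y) : Set Y) := by
  have hL : LJ cs h T X J ≤ Subgroup.normalizer ((VJ cs h X J ⊔ VNJ cs h X J : Subgroup Y) : Set Y) := by
    intro l hl
    have h1 := LJ_le_normalizer_VJ R J hl
    have h2 := LJ_le_normalizer_VNJ R J hl
    rw [mem_normalizer_iff_cj] at h1 h2 ⊢
    rw [cj_sup, h1, h2]
  have hV : VJ cs h X J ⊔ VNJ cs h X J ≤
      Subgroup.normalizer ((VJ cs h X J ⊔ VNJ cs h X J : Subgroup Y) : Set Y) := Subgroup.le_normalizer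
  refine sup_le (T_le_LJ.trans hL) (RGD.Sup_le fun x hx => ?_)
  have key : ∀ z, IsRoot cs h z → 0 ≤ z → z ∉ RootsJ cs h J → z ∈ NotJ cs h J := by
    intro z hz h0 hJ
    refine ⟨hz, h0, ?_⟩
    by_contra hcon
    push Not at hcon
    exact hJ ⟨hz, fun k hk => le_antisymm (hcon k hk) (h0 k)⟩
  by_cases hJ : x ∈ RootsJ cs h J
  · exact (X_le_LJ hJ).trans hL
  · rcases hx.pos_or_neg with h1 | h1
    · exact ((RGD.le_Sup (key x hx h1 hJ)).trans le_sup_left).trans hV
    · have h2 : x ∈ NotNJ cs h J := by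
        refine key (-x) hx.neg (neg_nonneg.2 h1) fun hJ' => hJ ⟨hx, fun k hk => ?_⟩
        have := hJ'.2 k hk
        rwa [Pi.neg_apply, neg_eq_zero] at this
      exact ((RGD.le_Sup h2).trans le_sup_right).trans hV

end Gen

/-- **A `p`-group of automorphisms normalising a nontrivial `r`-subgroup normalises two opposite unipotent radicals.** -/
theorem exists_pair {Y : Type*} [Group Y] [Finite Y] [IsSimpleGroup Y] {p r : ℕ} [hp : Fact p.Prime] [hr : Fact r.Prime]
    (hG : HasFilt r Y) (hc : ∃ a b : Y, a * b ≠ b * a) (hpr : p ≠ r) {E : Subgroup (MulAut Y)} (hE : IsPGroup p E)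
    {K : Subgroup Y} (hK : IsPGroup r K) (hK1 : K ≠ ⊥) (hEK : ∀ α ∈ E, K.map α.toMonoidHom = K) :
    ∃ V V' : Subgroup Y, IsPGroup r V ∧ IsPGroup r V' ∧ (∀ α ∈ E, V.map α.toMonoidHom = V) ∧
      (∀ α ∈ E, V'.map α.toMonoidHom = V') ∧ V ⊔ V' = ⊤ := by
  obtain ⟨V, hKV, hV, hVE⟩ := exists_rad hK hEK
  have hV1 : V ≠ ⊥ := by
    rintro rfl
    exact hK1 (le_bot_iff.1 hKV)
  obtain ⟨l, M, A, h, T, n, X, R, hW, hBT, hGG, hN, hconn, hX, hl⟩ := hG.data hc
  obtain ⟨g, J, hJ, e⟩ := eq_VJ_of_rad R hGG hBT hV hV1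
  set cs := M.toCoxeterSystem
  have hVJ1 : VJ cs h X J ≠ ⊥ := by
    intro h1
    apply hV1
    rw [e, h1]
    exact Subgroup.map_bot _
  -- `⟨V_J, V_J⁻⟩` is everything
  have htop : (VJ cs h X J ⊔ VNJ cs h X J : Subgroup Y) = ⊤ := by
    have h9 := GG_le_normalizer R J
    rw [hGG, top_le_iff, Subgroup.normalizer_eq_top_iff] at h9
    rcases h9.eq_bot_or_eq_top with h10 | h10
    · exfalso
      apply hVJ1
      rw [eq_bot_iff, ← h10]
      exact le_sup_left
    · exact h10
  have hVN1 : VNJ cs h X J ≠ ⊥ := by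
    intro h1
    rw [h1, sup_bot_eq] at htop
    have h7 : IsPGroup r (⊤ : Subgroup Y) := htop ▸ isPGroup_VJ R J
    have h8 : IsPGroup r Y := h7.of_equiv Subgroup.topEquiv
    have h9 := h8.center_nontrivial
    rw [KFacts.RgdLieCharP.center_eq_bot hc] at h9
    exact not_nontrivial _ h9
  -- the opposite radicals are permuted
  have hconj : ∀ α ∈ E, ∃ v ∈ V, (cj g (VNJ cs h X J)).map α.toMonoidHom = cj v (cj g (VNJ cs h X J)) := by
    intro α hα
    have h1 : (cj g (VJ cs h X J)).map α.toMonoidHom = cj g (VJ cs h X J) := by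
      rw [← e]; exact hVE α hα
    -- `β = g⁻¹ α g`
    set β : MulAut Y := (MulAut.conj g)⁻¹ * α * MulAut.conj g with hβ
    have hmap : ∀ B : Subgroup Y, B.map β.toMonoidHom = cj g⁻¹ ((cj g B).map α.toMonoidHom) := by
      intro B
      unfold cj
      rw [Subgroup.map_map, Subgroup.map_map]
      congr 1
      ext x
      show β x = MulAut.conj g⁻¹ (α (MulAut.conj g x))
      rw [hβ, map_inv]
      rfl
    have h2 : (VJ cs h X J).map β.toMonoidHom = VJ cs h X J := by
      rw [hmap, h1, cj_inv_cj]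
    obtain ⟨v, hv, e2⟩ := exists_conj_VNJ R hGG hBT hVN1 β h2
    rw [hmap] at e2
    refine ⟨g * v * g⁻¹, ?_, ?_⟩
    · rw [e]
      exact conj_mem_cj.2 hv
    · have h3 := congrArg (cj g) e2
      rw [cj_cj_inv] at h3
      rw [h3, ← cj_mul, ← cj_mul]
      congr 1
      group
  obtain ⟨v, hv, hfix⟩ := exists_fixed_conj hpr hE hV.1 hVE hconj
  have hVN : IsPGroup r (VNJ cs h X J) := (rad_VNJ R hGG J).1
  refine ⟨V, cj v (cj g (VNJ cs h X J)), hV.1, (hVN.map _).map _, hVE, hfix, ?_⟩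
  have h1 : V = cj v V := (cj_eq_of_mem hv).symm
  rw [h1, e, ← cj_sup, ← cj_sup, htop, eq_top_iff]
  intro y _
  rw [mem_cj, mem_cj]
  trivial

section Strong

open Cfsg.Agent.EvenType.StrongP Cfsg.Agent.H233.Core

variable {G : Type*} [Group G] [Finite G] {p : ℕ} [hp : Fact p.Prime]

/-- `p'`-subgroups invariant under a noncyclic elementary abelian `p`-subgroup of `H` lie in `H`. -/
theorem inv_le {H : Subgroup G} (hN : NormIn p H) {E : Subgroup G} (hEH : E ≤ H) [hEc : IsMulCommutative E]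
    (hexp : ∀ a ∈ E, a ^ p = 1) (hcard : p ^ 2 ≤ Nat.card E) {V : Subgroup G} (hV : ¬ p ∣ Nat.card V)
    (hEV : E ≤ Subgroup.normalizer (V : Set G)) : V ≤ H := by
  have hncyc : ¬ IsCyclic E := not_isCyclic hexp hcard
  have hcop : (Nat.card E).Coprime (Nat.card V) := by
    obtain ⟨n, hn⟩ := card_eq_pow hexp
    rw [hn]
    exact Nat.Coprime.pow_left n (coprime_of_not_dvd hV).symm
  rw [← Cfsg.Agent.S0058.result E V hncyc hEV hcop]
  refine iSup₂_le (fun a ha => inf_le_right.trans ?_)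
  exact centralizer_le hN (hEH ha.1) (hexp a ha.1) ha.2

/-- **A noncyclic elementary abelian `p`-subgroup of a strongly `p`-embedded subgroup `H` does not normalise a nontrivial
`r`-subgroup of a normal simple subgroup `L ≰ H` of Lie type of characteristic `r ≠ p`.** -/
theorem le_of_local {H L : Subgroup G} (hN : NormIn p H) [hLn : L.Normal] [IsSimpleGroup ↥L] {r : ℕ} [hr : Fact r.Prime]
    (hL : HasFilt r ↥L) (hc : ∃ a b : ↥L, a * b ≠ b * a) (hpr : p ≠ r) {E : Subgroup G} (hEH : E ≤ H)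
    [hEc : IsMulCommutative E] (hexp : ∀ a ∈ E, a ^ p = 1) (hcard : p ^ 2 ≤ Nat.card E) {K : Subgroup G} (hKL : K ≤ L)
    (hK : IsPGroup r K) (hK1 : K ≠ ⊥) (hEK : E ≤ Subgroup.normalizer (K : Set G)) : L ≤ H := by
  have hEp : IsPGroup p E := fun a => ⟨1, Subtype.ext (by rw [pow_one]; exact hexp a a.2)⟩
  have hcopr : ∀ Z : Subgroup G, IsPGroup r Z → ¬ p ∣ Nat.card Z := by
    intro Z hZ hd
    obtain ⟨m, hm⟩ := IsPGroup.iff_card.1 hZ
    rw [hm] at hd
    exact hpr ((Nat.prime_dvd_prime_iff_eq hp.out hr.out).1 (hp.out.dvd_of_dvd_pow hd))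
  set E' : Subgroup (MulAut ↥L) := E.map (MulAut.conjNormal (H := L)) with hE'
  have hE'p : IsPGroup p E' := hEp.map _
  set K' : Subgroup ↥L := K.subgroupOf L with hK'
  have hK'r : IsPGroup r K' := hK.comap_subtype
  have hK'1 : K' ≠ ⊥ := by
    intro h1
    rw [hK', Subgroup.subgroupOf_eq_bot, disjoint_iff, inf_eq_left.2 hKL] at h1
    exact hK1 h1
  have hmapL : ∀ (e : G) (B : Subgroup ↥L), ((B.map (MulAut.conjNormal (H := L) e).toMonoidHom).map L.subtype) =
      cj e (B.map L.subtype) := by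
    intro e B
    unfold cj
    rw [Subgroup.map_map, Subgroup.map_map]
    rfl
  have hK'E : ∀ α ∈ E', K'.map α.toMonoidHom = K' := by
    rintro _ ⟨e, he, rfl⟩
    apply Subgroup.map_injective L.subtype_injective
    rw [hmapL, hK', Subgroup.subgroupOf_map_subtype, inf_eq_left.2 hKL]
    exact mem_normalizer_iff_cj.1 (hEK he)
  obtain ⟨V, V', hV, hV', hVE, hVE', htop⟩ := exists_pair hL hc hpr hE'p hK'r hK'1 hK'E
  have key : ∀ Z : Subgroup ↥L, IsPGroup r Z → (∀ α ∈ E', Z.map α.toMonoidHom = Z) → Z.map L.subtype ≤ H := by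
    intro Z hZ hZE
    refine inv_le hN hEH hexp hcard (hcopr _ (hZ.map _)) fun e he => ?_
    rw [mem_normalizer_iff_cj, ← hmapL, hZE _ ⟨e, he, rfl⟩]
  have h1 := sup_le (key V hV hVE) (key V' hV' hVE')
  rw [← Subgroup.map_sup, htop, ← MonoidHom.range_eq_map, Subgroup.range_subtype] at h1
  exact h1

/-- characteristic two: an involution of `L` centralised by a noncyclic elementary abelian `p`-subgroup of `H` -/
theorem le_of_invol {H L : Subgroup G} (hN : NormIn p H) [hLn : L.Normal] [IsSimpleGroup ↥L] (hp2 : p ≠ 2)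
    (hL : HasFilt 2 ↥L) (hc : ∃ a b : ↥L, a * b ≠ b * a) {t : G} (htL : t ∈ L) (ht : orderOf t = 2)
    (hrk : PRankAtLeast p 2 ↥(H ⊓ Subgroup.centralizer ({t} : Set G))) : L ≤ H := by
  have : Fact (Nat.Prime 2) := ⟨Nat.prime_two⟩
  obtain ⟨D, hD⟩ : ∃ D : Subgroup G, D = H ⊓ Subgroup.centralizer ({t} : Set G) := ⟨_, rfl⟩
  rw [← hD] at hrk
  obtain ⟨A, hAc, hexp, hcard⟩ := hrk
  set E : Subgroup G := A.map D.subtype with hE
  have hED : E ≤ D := Subgroup.map_subtype_le _
  have hEexp : ∀ b ∈ E, b ^ p = 1 := by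
    rintro _ ⟨a, ha, rfl⟩
    have := hexp a ha
    rw [← map_pow, this, map_one]
  have hEcard : Nat.card E = Nat.card A := Subgroup.card_map_of_injective D.subtype_injective
  have hEc : IsMulCommutative E := by
    constructor
    constructor
    rintro ⟨_, a, ha, rfl⟩ ⟨_, b, hb, rfl⟩
    have h1 : (⟨a, ha⟩ : A) * ⟨b, hb⟩ = ⟨b, hb⟩ * ⟨a, ha⟩ := hAc.is_comm.comm _ _
    have h2 : a * b = b * a := congrArg Subtype.val h1
    exact Subtype.ext (by
      change D.subtype a * D.subtype b = D.subtype b * D.subtype a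
      rw [← map_mul, h2, map_mul])
  refine le_of_local hN hL hc hp2 (hED.trans (hD.le.trans inf_le_left)) hEexp (by rw [hEcard]; exact hcard)
    (K := Subgroup.zpowers t) (Subgroup.zpowers_le.2 htL) ?_ ?_ ?_
  · rw [IsPGroup.iff_card]
    exact ⟨1, by rw [Nat.card_zpowers, ht, pow_one]⟩
  · rw [Ne, Subgroup.zpowers_eq_bot]
    rintro rfl
    rw [orderOf_one] at ht
    exact absurd ht (by norm_num)
  · refine (hED.trans (hD.le.trans inf_le_right)).trans ?_
    intro g hg
    apply Subgroup.centralizer_le_normalizer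
    rw [Subgroup.zpowers_eq_closure, Subgroup.centralizer_closure]
    exact hg

end Strong

end Cfsg.Agent.H233.Rloc
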