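import Mathlib
import Cfsg.Prelude.Def_SporadicB
import Cfsg.Prelude.Def_Classification2
import Cfsg.Agent.S2870
import Cfsg.Agent.H233.Rloc
import Cfsg.Agent.H233.Simple

/-!
# The configuration of S2865, S2866, S2867, S2935

`Cex p H L` : `p` odd, `H` strongly `p`-embedded in `G`, `L ⊴ G` simple nonabelian with `C_G(L) = 1`, `p` divides `|L|`, `H ∩ L` has
an involution and `m_p(C_H(t)) ≥ 2` for all involutions `t` of `H`.

* `Sq p E` : `E` is a noncyclic elementary abelian `p`-group;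
* `Cex.inv` : an involution `t` of `G` with `p ∣ |C_G(t)|` is conjugate into `H` and centralised by some `E` with `Sq p E`;
* `Cex.no_local` : no `E` with `Sq p E` normalises a nontrivial `r`-subgroup of `L` (`L` of Lie type of characteristic `r ≠ p`);
* `Cex.no_filt_two` : `L` is not of Lie type of characteristic 2 (Sz and `²F₄` are not included);
* `normalizer_le`, `two_le` : subgroups of `H`;
* `Cex.unique`, `Cex.fus` : an involution `t ∈ H` with `C_G(t) ≤ H` fixes a unique point of `G/H`.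
-/

set_option autoImplicit false
set_option linter.unusedSectionVars false

namespace Cfsg.Agent.H233.T

open Cfsg Subgroup Cfsg.Agent.EvenType.StrongP Cfsg.Agent.H233.Core Cfsg.Agent.H233.Rloc Cfsg.Agent.KFacts.RgdFilt

variable {G : Type*} [Group G] {p : ℕ}

/-- `E` is a noncyclic elementary abelian `p`-group. -/
def Sq (p : ℕ) (E : Subgroup G) : Prop := IsMulCommutative E ∧ (∀ a ∈ E, a ^ p = 1) ∧ p ^ 2 ≤ Nat.card E

theorem Sq.isPGroup {E : Subgroup G} (hE : Sq p E) : IsPGroup p E :=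
  fun a => ⟨1, Subtype.ext (by rw [pow_one]; exact hE.2.1 a a.2)⟩

theorem Sq.map {G' : Type*} [Group G'] {E : Subgroup G} (hE : Sq p E) (f : G →* G')
    (hf : Function.Injective f) : Sq p (E.map f) := by
  refine ⟨⟨⟨?_⟩⟩, ?_, ?_⟩
  · rintro ⟨_, a, ha, rfl⟩ ⟨_, b, hb, rfl⟩
    have h1 : (⟨a, ha⟩ : E) * ⟨b, hb⟩ = ⟨b, hb⟩ * ⟨a, ha⟩ := hE.1.is_comm.comm _ _
    have h2 : a * b = b * a := congrArg Subtype.val h1
    exact Subtype.ext (by change f a * f b = f b * f a; rw [← map_mul, h2, map_mul])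
  · rintro _ ⟨a, ha, rfl⟩
    rw [← map_pow, hE.2.1 a ha, map_one]
  · rw [Subgroup.card_map_of_injective hf]
    exact hE.2.2

theorem exists_sq {D : Subgroup G} (h : PRankAtLeast p 2 ↥D) : ∃ E : Subgroup G, E ≤ D ∧ Sq p E := by
  obtain ⟨A, hA, hexp, hcard⟩ := h
  have h1 : Sq p A := ⟨hA, hexp, hcard⟩
  exact ⟨A.map D.subtype, Subgroup.map_subtype_le _, h1.map _ D.subtype_injective⟩

theorem prank_of_sq {D E : Subgroup G} (hED : E ≤ D) (hE : Sq p E) : PRankAtLeast p 2 ↥D := by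
  refine ⟨E.subgroupOf D, ⟨⟨?_⟩⟩, ?_, ?_⟩
  · rintro ⟨a, ha⟩ ⟨b, hb⟩
    have h1 : (⟨(a : G), ha⟩ : E) * ⟨(b : G), hb⟩ = ⟨(b : G), hb⟩ * ⟨(a : G), ha⟩ := hE.1.is_comm.comm _ _
    have h2 : (a : G) * b = b * a := congrArg Subtype.val h1
    exact Subtype.ext (Subtype.ext h2)
  · intro a ha
    exact Subtype.ext (hE.2.1 a ha)
  · rw [Nat.card_congr (Subgroup.subgroupOfEquivOfLe hED).toEquiv]
    exact hE.2.2

theorem Sq.mono_card [Finite G] {E D : Subgroup G} (hE : Sq p E) (hED : E ≤ D) : p ^ 2 ∣ Nat.card D ∨ p ^ 2 ≤ Nat.card D :=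
  Or.inr (hE.2.2.trans (Nat.le_of_dvd Nat.card_pos (Subgroup.card_dvd_of_le hED)))

/-- the configuration -/
structure Cex (p : ℕ) {G : Type*} [Group G] (H L : Subgroup G) : Prop where
  odd : p ≠ 2
  se : IsStronglyPEmbedded p H
  nrm : L.Normal
  cent : centralizer (L : Set G) = ⊥
  simple : IsSimpleGroup ↥L
  nc : ∃ a b : ↥L, a * b ≠ b * a
  dvd : p ∣ Nat.card L
  even : ∃ t ∈ H ⊓ L, orderOf t = 2
  rk : ∀ t ∈ H, orderOf t = 2 → PRankAtLeast p 2 ↥(H ⊓ centralizer ({t} : Set G))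

section

variable [Finite G] [hp : Fact p.Prime]

theorem Sq.dvd_card {E : Subgroup G} (hE : Sq p E) : p ^ 2 ∣ Nat.card E := by
  obtain ⟨n, hn⟩ := card_eq_pow hE.2.1
  have h1 := hE.2.2
  rw [hn] at h1 ⊢
  exact pow_dvd_pow p ((Nat.pow_le_pow_iff_right hp.out.one_lt).1 h1)

/-- elements of order `p` are conjugate into `H` -/
theorem exists_conj_le_of_pgroup {H : Subgroup G} (hH : IsStronglyPEmbedded p H) {E : Subgroup G} (hE : IsPGroup p E) :
    ∃ g : G, E.map (MulAut.conj g).toMonoidHom ≤ H := by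
  obtain ⟨P, hP⟩ := hE.exists_le_sylow
  obtain ⟨S⟩ : Nonempty (Sylow p ↥H) := inferInstance
  obtain ⟨Q, hQ⟩ := (normIn hH).sylow (EvenType.StrongP.dvd_card hH) S
  obtain ⟨g, hg⟩ := MulAction.exists_smul_eq G P Q
  refine ⟨g, ?_⟩
  have h3 : E.map (MulAut.conj g).toMonoidHom ≤ ((g • P : Sylow p G) : Subgroup G) := Subgroup.map_mono hP
  rw [hg, hQ] at h3
  exact h3.trans (Subgroup.map_subtype_le _)

/-- The normalizer of a subgroup `N ≤ H` of order divisible by `p` lies in `H`. -/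
theorem normalizer_le {H N : Subgroup G} (hN : NormIn p H) (hNH : N ≤ H) (hd : p ∣ Nat.card N) :
    normalizer (N : Set G) ≤ H := by
  intro g hg
  obtain ⟨P⟩ : Nonempty (Sylow p ↥N) := inferInstance
  set Q : Subgroup G := (P : Subgroup ↥N).map N.subtype with hQ
  have hQp : IsPGroup p Q := P.isPGroup'.map _
  have hQN : Q ≤ N := Subgroup.map_subtype_le _
  have hcard : Nat.card Q = Nat.card P := Subgroup.card_map_of_injective N.subtype_injective
  have hQne : Q ≠ ⊥ := by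
    intro h0
    have h1 := P.dvd_card_of_dvd_card hd
    rw [← hcard, h0, Subgroup.card_bot, Nat.dvd_one] at h1
    exact hp.out.one_lt.ne' h1
  -- the conjugate Sylow subgroup
  have hconj : Q.map (MulAut.conj g).toMonoidHom ≤ N := by
    rintro _ ⟨x, hx, rfl⟩
    exact (Subgroup.mem_normalizer_iff.1 hg x).1 (hQN hx)
  have hR : IsPGroup p ((Q.map (MulAut.conj g).toMonoidHom).subgroupOf N) := (hQp.map _).comap_subtype
  obtain ⟨S, hS⟩ := hR.exists_le_sylow
  have hScard : Nat.card S = Nat.card ((Q.map (MulAut.conj g).toMonoidHom).subgroupOf N) := by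
    rw [Nat.card_congr (Subgroup.subgroupOfEquivOfLe hconj).toEquiv,
      Subgroup.card_map_of_injective (MulAut.conj g).injective, hcard, Sylow.card_eq_multiplicity,
      Sylow.card_eq_multiplicity]
  have hSeq : (Q.map (MulAut.conj g).toMonoidHom).subgroupOf N = S :=
    Subgroup.eq_of_le_of_card_ge hS (le_of_eq hScard)
  obtain ⟨n, hn⟩ := MulAction.exists_smul_eq ↥N S P
  have hfin : (n : G) * g ∈ normalizer (Q : Set G) := by
    have h1 : Q.map (MulAut.conj ((n : G) * g)).toMonoidHom = Q := by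
      rw [map_conj_mul]
      have h2 : (((n • S : Sylow p ↥N) : Subgroup ↥N)).map N.subtype = Q := by rw [hn]
      have h3 : (((n • S : Sylow p ↥N) : Subgroup ↥N)) = (S : Subgroup ↥N).map (MulAut.conj n).toMonoidHom := rfl
      rw [h3, ← hSeq, Subgroup.map_map] at h2
      have h4 : N.subtype.comp (MulAut.conj n).toMonoidHom = ((MulAut.conj (n : G)).toMonoidHom).comp N.subtype := by
        ext x; rfl
      rw [h4, ← Subgroup.map_map, Subgroup.subgroupOf_map_subtype, inf_eq_left.2 hconj] at h2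
      exact h2
    rw [Subgroup.mem_normalizer_iff]
    intro x
    constructor
    · intro hx
      have h2 : (n : G) * g * x * ((n : G) * g)⁻¹ ∈ Q.map (MulAut.conj ((n : G) * g)).toMonoidHom := ⟨x, hx, rfl⟩
      rwa [h1] at h2
    · intro hx
      rw [← h1] at hx
      obtain ⟨y, hy, e⟩ := hx
      have h2 : (MulAut.conj ((n : G) * g)) y = (MulAut.conj ((n : G) * g)) x := e
      rwa [← (MulAut.conj ((n : G) * g)).injective h2]
  have h1 : (n : G) * g ∈ H := hN Q hQp (hQN.trans hNH) hQne hfin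
  have h2 := H.mul_mem (H.inv_mem (hNH n.2)) h1
  rwa [inv_mul_cancel_left] at h2

/-- `A` and `B` commute and both have order divisible by `p`; if one of them meets `H` in a subgroup of order divisible by `p`, both
lie in `H`. -/
theorem two_le {H A B : Subgroup G} (hN : NormIn p H) (hcomm : ∀ a ∈ A, ∀ b ∈ B, a * b = b * a)
    {a : G} (ha : a ∈ A) (haH : a ∈ H) (hap : a ^ p = 1) (ha1 : a ≠ 1) (hB : p ∣ Nat.card B) : A ⊔ B ≤ H := by
  have hBH : B ≤ H := by
    refine le_trans ?_ (centralizer_le hN haH hap ha1)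
    intro b hb
    rw [mem_centralizer_singleton_iff]
    exact (hcomm a ha b hb).symm
  obtain ⟨⟨b, hb⟩, hbo⟩ := exists_prime_orderOf_dvd_card' p hB
  have hbp : b ^ p = 1 := by
    have := pow_orderOf_eq_one (⟨b, hb⟩ : B)
    rw [hbo] at this
    exact congrArg Subtype.val this
  have hb1 : b ≠ 1 := by
    rintro rfl
    have h2 : (⟨1, hb⟩ : B) = 1 := rfl
    rw [h2, orderOf_one] at hbo
    exact hp.out.one_lt.ne hbo
  refine sup_le ?_ hBH
  refine le_trans ?_ (centralizer_le hN (hBH hb) hbp hb1)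
  intro x hx
  rw [mem_centralizer_singleton_iff]
  exact hcomm x hx b hb

end

namespace Cex

variable [Finite G] [hp : Fact p.Prime] {H L : Subgroup G}

theorem normIn (C : Cex p H L) : NormIn p H := EvenType.StrongP.normIn C.se

theorem not_le (C : Cex p H L) : ¬ L ≤ H := by
  intro h
  have := C.nrm
  exact not_dvd_card_of_normal_le C.se h C.dvd

theorem L_ne_bot (C : Cex p H L) : L ≠ ⊥ := by
  rintro rfl
  have := C.dvd
  rw [Subgroup.card_bot, Nat.dvd_one] at this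
  exact hp.out.one_lt.ne' this

/-- every conjugate of `H` is a counterexample, too -/
theorem conj_mem_iff (C : Cex p H L) {g x : G} : g * x * g⁻¹ ∈ L ↔ x ∈ L := by
  have := C.nrm
  constructor
  · intro h
    have h1 := this.conj_mem _ h g⁻¹
    have e : g⁻¹ * (g * x * g⁻¹) * g⁻¹⁻¹ = x := by group
    rwa [e] at h1
  · intro h
    exact this.conj_mem _ h g

/-- **INV**: an involution whose centralizer has order divisible by `p` is conjugate into `H`. -/
theorem inv_conj (C : Cex p H L) {t : G} (hd : p ∣ Nat.card (centralizer ({t} : Set G))) :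
    ∃ g : G, g * t * g⁻¹ ∈ H := by
  obtain ⟨⟨x, hx⟩, hxo⟩ := exists_prime_orderOf_dvd_card' p hd
  have hxp : x ^ p = 1 := by
    have := pow_orderOf_eq_one (⟨x, hx⟩ : centralizer ({t} : Set G))
    rw [hxo] at this
    exact congrArg Subtype.val this
  have hx1 : x ≠ 1 := by
    rintro rfl
    have h2 : (⟨1, hx⟩ : centralizer ({t} : Set G)) = 1 := rfl
    rw [h2, orderOf_one] at hxo
    exact hp.out.one_lt.ne hxo
  obtain ⟨g', hg'⟩ := Simple.exists_conj_mem C.se hxp
  obtain ⟨g, hg⟩ : ∃ g : G, g * x * g⁻¹ ∈ H := by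
    refine ⟨g'⁻¹, ?_⟩
    have := mem_map_conj.1 hg'
    rwa [inv_inv]
  refine ⟨g, centralizer_le C.normIn hg (by rw [conj_pow, hxp, mul_one, mul_inv_cancel]) (fun h => hx1 ?_) ?_⟩
  · exact (conj_eq_one_iff).1 h
  · rw [mem_centralizer_singleton_iff] at hx ⊢
    calc g * t * g⁻¹ * (g * x * g⁻¹) = g * (t * x) * g⁻¹ := by group
      _ = g * (x * t) * g⁻¹ := by rw [hx]
      _ = _ := by group

theorem orderOf_conj' (t g : G) : orderOf (g * t * g⁻¹) = orderOf t :=
  orderOf_injective (MulAut.conj g).toMonoidHom (MulAut.conj g).injective t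

theorem sq_conj {E : Subgroup G} (hE : Sq p E) (g : G) : Sq p (E.map (MulAut.conj g).toMonoidHom) :=
  hE.map _ (MulAut.conj g).injective

/-- an involution whose centralizer has order divisible by `p` is centralised by a noncyclic elementary abelian `p`-group -/
theorem inv (C : Cex p H L) {t : G} (ht : orderOf t = 2) (hd : p ∣ Nat.card (centralizer ({t} : Set G))) :
    ∃ E : Subgroup G, Sq p E ∧ E ≤ centralizer ({t} : Set G) := by
  obtain ⟨g, hg⟩ := C.inv_conj hd
  obtain ⟨E, hE, hsq⟩ := exists_sq (C.rk _ hg (by rw [orderOf_conj', ht]))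
  refine ⟨E.map (MulAut.conj g⁻¹).toMonoidHom, sq_conj hsq _, ?_⟩
  rintro _ ⟨e, he, rfl⟩
  have h1 : e * (g * t * g⁻¹) = g * t * g⁻¹ * e := mem_centralizer_singleton_iff.1 (hE he).2
  rw [mem_centralizer_singleton_iff]
  show g⁻¹ * e * g⁻¹⁻¹ * t = t * (g⁻¹ * e * g⁻¹⁻¹)
  calc g⁻¹ * e * g⁻¹⁻¹ * t = g⁻¹ * (e * (g * t * g⁻¹)) * g := by group
    _ = g⁻¹ * (g * t * g⁻¹ * e) * g := by rw [h1]
    _ = _ := by group

/-- the same, with the rank -/
theorem inv_rank (C : Cex p H L) {t : G} (ht : orderOf t = 2) (hd : p ∣ Nat.card (centralizer ({t} : Set G))) :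
    p ^ 2 ∣ Nat.card (centralizer ({t} : Set G)) := by
  obtain ⟨E, hE, hEt⟩ := C.inv ht hd
  exact hE.dvd_card.trans (Subgroup.card_dvd_of_le hEt)

/-- there is an involution `t ∈ H ∩ L` and `E ≤ C_H(t)` -/
theorem exists_invol (C : Cex p H L) : ∃ t ∈ H ⊓ L, orderOf t = 2 ∧ ∃ E : Subgroup G, Sq p E ∧ E ≤ H ∧
    E ≤ centralizer ({t} : Set G) := by
  obtain ⟨t, ht, ht2⟩ := C.even
  obtain ⟨E, hE, hsq⟩ := exists_sq (C.rk t ht.1 ht2)
  exact ⟨t, ht, ht2, E, hsq, hE.trans inf_le_left, hE.trans inf_le_right⟩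

/-- **RLOC** -/
theorem no_local (C : Cex p H L) {r : ℕ} [hr : Fact r.Prime] (hL : HasFilt r ↥L) (hpr : p ≠ r) {E K : Subgroup G}
    (hE : Sq p E) (hKL : K ≤ L) (hK : IsPGroup r K) (hK1 : K ≠ ⊥) (hEK : E ≤ normalizer (K : Set G)) : False := by
  obtain ⟨g, hg⟩ := exists_conj_le_of_pgroup C.se hE.isPGroup
  have hE' := sq_conj hE g
  have hn := C.nrm
  have hs := C.simple
  have hc1 := hE'.1
  refine C.not_le (le_of_local C.normIn hL C.nc hpr hg hE'.2.1 hE'.2.2 (K := K.map (MulAut.conj g).toMonoidHom)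
    ?_ (hK.map _) ?_ ?_)
  · rintro _ ⟨k, hk, rfl⟩
    exact hn.conj_mem _ (hKL hk) g
  · intro h
    exact hK1 ((Subgroup.map_eq_bot_iff_of_injective _ (MulAut.conj g).injective).1 h)
  · rw [EvenType.StrongP.normalizer_map_conj]
    exact Subgroup.map_mono hEK

/-- **Characteristic two.** -/
theorem no_filt_two (C : Cex p H L) (hL : HasFilt 2 ↥L) : False := by
  have : Fact (Nat.Prime 2) := ⟨Nat.prime_two⟩
  obtain ⟨t, ht, ht2, E, hE, -, hEt⟩ := C.exists_invol
  refine C.no_local hL C.odd hE (K := zpowers t) (zpowers_le.2 ht.2) ?_ ?_ ?_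
  · rw [IsPGroup.iff_card]
    exact ⟨1, by rw [Nat.card_zpowers, ht2, pow_one]⟩
  · rw [Ne, zpowers_eq_bot]
    rintro rfl
    rw [orderOf_one] at ht2
    exact absurd ht2 (by norm_num)
  · refine hEt.trans ?_
    intro g hg
    apply Subgroup.centralizer_le_normalizer
    rw [zpowers_eq_closure, centralizer_closure]
    exact hg

theorem rk_dvd (C : Cex p H L) (t : G) (ht : t ∈ H) (ht2 : orderOf t = 2) :
    p ∣ Nat.card ↥(H ⊓ centralizer ({t} : Set G)) := by
  obtain ⟨E, hE, hsq⟩ := exists_sq (C.rk t ht ht2)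
  exact (dvd_pow_self p two_ne_zero).trans (hsq.dvd_card.trans (Subgroup.card_dvd_of_le hE))

/-- An involution `t ∈ H` with `C_G(t) ≤ H` fixes a unique point of `G / H`. -/
theorem unique (C : Cex p H L) {t : G} (ht : t ∈ H) (ht2 : orderOf t = 2)
    (hc : centralizer ({t} : Set G) ≤ H) {g : G} (hg : g * t * g⁻¹ ∈ H) : g ∈ H := by
  obtain ⟨h, hh, e⟩ := S2870.result C.odd H C.se C.rk_dvd t ht ht2 g hg
  have h1 : h⁻¹ * g ∈ centralizer ({t} : Set G) := by
    rw [mem_centralizer_singleton_iff]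
    have h2 : t = h⁻¹ * (g * t * g⁻¹) * h := by rw [← e]; group
    calc h⁻¹ * g * t = h⁻¹ * (g * t * g⁻¹) * h * (h⁻¹ * g) := by group
      _ = t * (h⁻¹ * g) := by rw [← h2]
  have h2 := H.mul_mem hh (hc h1)
  rwa [mul_inv_cancel_left] at h2

/-- and the same holds for the conjugates of `t` in `H` -/
theorem cent_conj_le (C : Cex p H L) {t : G} (ht : t ∈ H) (ht2 : orderOf t = 2)
    (hc : centralizer ({t} : Set G) ≤ H) {g : G} (hg : g * t * g⁻¹ ∈ H) :
    centralizer ({g * t * g⁻¹} : Set G) ≤ H := by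
  have hgH := C.unique ht ht2 hc hg
  intro x hx
  have h1 : g⁻¹ * x * g ∈ centralizer ({t} : Set G) := by
    rw [mem_centralizer_singleton_iff] at hx ⊢
    calc g⁻¹ * x * g * t = g⁻¹ * (x * (g * t * g⁻¹)) * g := by group
      _ = g⁻¹ * (g * t * g⁻¹ * x) * g := by rw [hx]
      _ = _ := by group
  have h2 := H.mul_mem (H.mul_mem hgH (hc h1)) (H.inv_mem hgH)
  have e : g * (g⁻¹ * x * g) * g⁻¹ = x := by group
  rwa [e] at h2

/-- The conclusion of S2901 (Holt), as a hypothesis. -/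
def HoltStmt.{u} : Prop :=
  ∀ (K : Type u) [Group K] [Finite K] [IsSimpleGroup K] (_ : ¬ IsMulCommutative K) (P : Subgroup K) (_ : P ≠ ⊤) (r : K)
    (_ : r ∈ P) (_ : IsTwoCentralInvolution r) (_ : centralizer ({r} : Set K) ≤ P)
    (_ : ∀ g : K, g * r * g⁻¹ ∈ P → ∃ h ∈ P, h * r * h⁻¹ = g * r * g⁻¹),
    (∃ (F : Type) (_ : Field F) (_ : Fintype F) (a : ℕ), 2 ≤ a ∧ Fintype.card F = 2 ^ a ∧
        Nonempty (K ≃* Matrix.ProjectiveSpecialLinearGroup (Fin 2) F)) ∨
      (∃ (F : Type) (_ : Field F) (_ : Fintype F) (a : ℕ), 2 ≤ a ∧ Fintype.card F = (2 ^ a) ^ 2 ∧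
        Nonempty (K ≃* PSU 3 F (2 ^ a))) ∨ Lie.IsoSuzuki K ∨
      ∃ n : ℕ, 5 ≤ n ∧ Nonempty (K ≃* ↥(alternatingGroup (Fin n)))

/-- **HOLT**: a 2-central involution `t ∈ H ∩ L` of `L` with `C_G(t) ≤ H`. -/
theorem holt.{u} {G : Type u} [Group G] [Finite G] {H L : Subgroup G} (hHolt : HoltStmt.{u}) (C : Cex p H L) (t : ↥L)
    (ht : (t : G) ∈ H) (ht2 : IsTwoCentralInvolution t) (hc : centralizer ({(t : G)} : Set G) ≤ H) :
    (∃ (F : Type) (_ : Field F) (_ : Fintype F) (a : ℕ), 2 ≤ a ∧ Fintype.card F = 2 ^ a ∧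
        Nonempty (↥L ≃* Matrix.ProjectiveSpecialLinearGroup (Fin 2) F)) ∨
      (∃ (F : Type) (_ : Field F) (_ : Fintype F) (a : ℕ), 2 ≤ a ∧ Fintype.card F = (2 ^ a) ^ 2 ∧
        Nonempty (↥L ≃* PSU 3 F (2 ^ a))) ∨ Lie.IsoSuzuki ↥L ∨
      ∃ n : ℕ, 5 ≤ n ∧ Nonempty (↥L ≃* ↥(alternatingGroup (Fin n))) := by
  have hs := C.simple
  have hto : orderOf (t : G) = 2 := by rw [Subgroup.orderOf_coe]; exact ht2.1
  refine hHolt ↥L (fun h => ?_) (H.subgroupOf L) (fun h => ?_) t ht ht2 (fun x hx => ?_) (fun g hg => ?_)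
  · obtain ⟨a, b, hab⟩ := C.nc
    exact hab (h.is_comm.comm a b)
  · rw [Subgroup.subgroupOf_eq_top] at h
    exact C.not_le h
  · rw [mem_subgroupOf]
    apply hc
    rw [mem_centralizer_singleton_iff] at hx ⊢
    exact congrArg Subtype.val hx
  · rw [mem_subgroupOf] at hg
    have h1 : (g : G) ∈ H := C.unique ht hto hc hg
    exact ⟨g, h1, rfl⟩

end Cex

end Cfsg.Agent.H233.T
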