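import Mathlib
import Cfsg.Agent.H233.Cex
import Cfsg.Agent.OddHalf.LongSL.Abs
import Cfsg.Agent.OddTab.Long
import Cfsg.Agent.S0258
import Cfsg.Agent.H482.SylowNumbers
import Cfsg.Agent.ClassicalGeometry.MinIndexPSL2

/-!
# The classical involution: `p ∤ q + 1`

* `exists_inv_rgroup` : a `p`-group `E` such that the `E`-conjugates of `J` are equal to or commute with `J`, `p` not dividing the
  number of Sylow `r`-subgroups of `J`: `E` normalises a nontrivial `r`-subgroup;
* `card_sylow_sl` : `SL₂(q)` has `q + 1` Sylow `r`-subgroups;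
* `Cex.long_not_dvd` : `L` of Lie type of odd characteristic `r ≠ p`, `J ≅ SL₂(q)` subnormal in `C_L(j)`, `j ∈ J`, `p ∤ q + 1` imply
  `p ∤ |C_G(j)|`.
-/

set_option autoImplicit false
set_option linter.unusedSectionVars false

namespace Cfsg.Agent.H233.T

open Cfsg Subgroup Cfsg.Agent.Nodes.Reps Cfsg.Agent.KFacts.RgdFilt Cfsg.Agent.EvenType.StrongP Cfsg.Agent.H233.Core

section Inv

open scoped Pointwise

variable {G : Type*} [Group G] [Finite G] {p r : ℕ} [hp : Fact p.Prime] [hr : Fact r.Prime]

/-- a `p`-group normalising `J` normalises a Sylow `r`-subgroup of `J` -/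
theorem exists_sylow_inv {E J : Subgroup G} (hE : IsPGroup p E) (hEJ : E ≤ normalizer (J : Set G))
    (hS : ¬ p ∣ Nat.card (Sylow r ↥J)) :
    ∃ X : Sylow r ↥J, ∀ e ∈ E, cj e ((X : Subgroup ↥J).map J.subtype) = (X : Subgroup ↥J).map J.subtype := by
  set φ : ↥E →* MulAut ↥J := J.normalizerMonoidHom.comp (Subgroup.inclusion hEJ) with hφ
  have hR : IsPGroup p φ.range := hE.of_surjective φ.rangeRestrict φ.rangeRestrict_surjective
  obtain ⟨X, hX⟩ := hR.nonempty_fixed_point_of_prime_not_dvd_card (Sylow r ↥J) hS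
  refine ⟨X, fun e he => ?_⟩
  have h1 : (⟨φ ⟨e, he⟩, ⟨e, he⟩, rfl⟩ : φ.range) • X = X := hX _
  have h2 : (φ ⟨e, he⟩) • (X : Subgroup ↥J) = (X : Subgroup ↥J) := congrArg Sylow.toSubgroup h1
  have h3 : (X : Subgroup ↥J).map (φ ⟨e, he⟩).toMonoidHom = (X : Subgroup ↥J) := h2
  conv_rhs => rw [← h3]
  unfold cj
  rw [Subgroup.map_map, Subgroup.map_map]
  rfl

theorem exists_inv_rgroup {E J : Subgroup G} (hE : IsPGroup p E)
    (hJ : ∀ e ∈ E, cj e J = J ∨ ∀ x ∈ cj e J, ∀ y ∈ J, x * y = y * x)
    (hS : ¬ p ∣ Nat.card (Sylow r ↥J)) (hrJ : r ∣ Nat.card J) :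
    ∃ K : Subgroup G, IsPGroup r K ∧ K ≠ ⊥ ∧ E ≤ normalizer (K : Set G) ∧
      ∀ N : Subgroup G, (∀ e ∈ E, cj e J ≤ N) → K ≤ N := by
  set E1 : Subgroup G := E ⊓ normalizer (J : Set G) with hE1
  obtain ⟨X, hX⟩ := exists_sylow_inv (r := r) (E := E1) (J := J) (hE.to_le inf_le_left) inf_le_right hS
  set Q : Subgroup G := (X : Subgroup ↥J).map J.subtype with hQ
  have hQr : IsPGroup r Q := X.isPGroup'.map _
  have hQJ : Q ≤ J := Subgroup.map_subtype_le _
  have hQ1 : Q ≠ ⊥ := by
    intro h0
    have h1 := X.dvd_card_of_dvd_card hrJ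
    have h2 : Nat.card Q = Nat.card X := Subgroup.card_map_of_injective J.subtype_injective
    rw [← h2, h0, Subgroup.card_bot, Nat.dvd_one] at h1
    exact hr.out.one_lt.ne' h1
  set K : Subgroup G := ⨆ e : ↥E, cj (e : G) Q with hK
  have hle : ∀ e ∈ E, cj e Q ≤ K := fun e he => le_iSup (fun e : ↥E => cj (e : G) Q) ⟨e, he⟩
  have hnorm : ∀ e ∈ E, K ≤ normalizer ((cj e Q : Subgroup G) : Set G) := by
    intro e he
    refine iSup_le ?_
    rintro ⟨e', he'⟩
    show cj e' Q ≤ _
    have hd : e⁻¹ * e' ∈ E := mul_mem (inv_mem he) he'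
    rcases hJ _ hd with h1 | h1
    · have h2 : cj (e⁻¹ * e') Q = Q := hX _ ⟨hd, mem_normalizer_iff_cj.2 h1⟩
      have h3 : cj e' Q = cj e Q := by
        have h4 : e' = e * (e⁻¹ * e') := by group
        rw [h4, cj_mul, h2]
      rw [h3]
      exact le_normalizer
    · refine le_trans ?_ (Subgroup.centralizer_le_normalizer _)
      intro x hx
      rw [Subgroup.mem_centralizer_iff]
      intro y hy
      rw [mem_cj] at hx
      have hy' := mem_cj.1 hy
      have h2 : e⁻¹ * x * e ∈ cj (e⁻¹ * e') J := by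
        rw [mem_cj]
        have h3 : (e⁻¹ * e')⁻¹ * (e⁻¹ * x * e) * (e⁻¹ * e') = e'⁻¹ * x * e' := by group
        rw [h3]
        exact hQJ hx
      have h3 := h1 _ h2 _ (hQJ hy')
      have h4 : e * (e⁻¹ * x * e * (e⁻¹ * y * e)) * e⁻¹ = e * (e⁻¹ * y * e * (e⁻¹ * x * e)) * e⁻¹ := by rw [h3]
      have h5 : e * (e⁻¹ * x * e * (e⁻¹ * y * e)) * e⁻¹ = x * y := by group
      have h6 : e * (e⁻¹ * y * e * (e⁻¹ * x * e)) * e⁻¹ = y * x := by group
      rw [h5, h6] at h4
      exact h4.symm
  refine ⟨K, ?_, ?_, ?_, ?_⟩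
  · have h1 : K ≤ (pCore r ↥K).map K.subtype := by
      refine iSup_le ?_
      rintro ⟨e, he⟩
      show cj e Q ≤ _
      have h2 : (cj e Q).subgroupOf K ≤ pCore r ↥K := by
        refine Lib.Cores.le_pCore ?_ ((hQr.map _).comap_subtype)
        exact (Subgroup.normal_subgroupOf_iff_le_normalizer (hle e he)).2 (hnorm e he)
      intro x hx
      exact ⟨⟨x, hle e he hx⟩, h2 (mem_subgroupOf.2 hx), rfl⟩
    exact ((Lib.Cores.pCore_isPGroup r).map K.subtype).to_le h1
  · intro h0
    apply hQ1
    rw [eq_bot_iff, ← h0]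
    have := hle 1 (one_mem _)
    rwa [cj_one] at this
  · intro e he
    rw [mem_normalizer_iff_cj, hK, cj_iSup]
    apply le_antisymm
    · refine iSup_le ?_
      rintro ⟨e', he'⟩
      show cj e (cj e' Q) ≤ _
      rw [← cj_mul]
      exact hle _ (mul_mem he he')
    · refine iSup_le ?_
      rintro ⟨e', he'⟩
      show cj e' Q ≤ _
      have h4 : e' = e * (e⁻¹ * e') := by group
      rw [h4, cj_mul]
      exact le_iSup (fun x : ↥E => cj e (cj (x : G) Q)) ⟨e⁻¹ * e', mul_mem (inv_mem he) he'⟩
  · intro N hN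
    refine iSup_le ?_
    rintro ⟨e, he⟩
    exact (cj_mono e hQJ).trans (hN e he)

end Inv

section SL

open Matrix

/-- The number of Sylow `r`-subgroups of a normal subgroup of index prime to `r`. -/
theorem card_sylow_normal {G : Type*} [Group G] [Finite G] {r : ℕ} [hr : Fact r.Prime] (N : Subgroup G) [N.Normal]
    (hN : ¬ r ∣ N.index) : Nat.card (Sylow r ↥N) = Nat.card (Sylow r G) := by
  refine Nat.card_congr (Equiv.ofBijective (fun S : Sylow r ↥N => (?_ : Sylow r G)) ?_)
  · refine (S.isPGroup'.map N.subtype).toSylow ?_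
    rw [Subgroup.index_map_subtype]
    intro h
    rcases hr.out.dvd_mul.1 h with h3 | h3
    · exact S.not_dvd_index h3
    · exact hN h3
  · constructor
    · intro S T hST
      have h1 : (S : Subgroup ↥N).map N.subtype = (T : Subgroup ↥N).map N.subtype := congrArg Sylow.toSubgroup hST
      exact Sylow.ext (Subgroup.map_injective N.subtype_injective h1)
    · intro P
      obtain ⟨S⟩ : Nonempty (Sylow r ↥N) := inferInstance
      have h0 : ¬ r ∣ ((S : Subgroup ↥N).map N.subtype).index := by
        rw [Subgroup.index_map_subtype]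
        intro h
        rcases hr.out.dvd_mul.1 h with h3 | h3
        · exact S.not_dvd_index h3
        · exact hN h3
      obtain ⟨g, hg⟩ := MulAction.exists_smul_eq G (IsPGroup.toSylow (S.isPGroup'.map N.subtype) h0) P
      have h1 : (P : Subgroup G) ≤ N := by
        rw [← hg]
        rintro _ ⟨x, ⟨y, -, rfl⟩, rfl⟩
        exact (inferInstance : N.Normal).conj_mem _ y.2 g
      refine ⟨P.subtype h1, ?_⟩
      apply Sylow.ext
      show ((P.subtype h1 : Sylow r ↥N) : Subgroup ↥N).map N.subtype = P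
      rw [Sylow.coe_subtype, Subgroup.subgroupOf_map_subtype, inf_eq_left.2 h1]

theorem card_sylow_sl {F : Type*} [Field F] [Fintype F] (r : ℕ) [hr : Fact r.Prime] [CharP F r] :
    Nat.card (Sylow r (SpecialLinearGroup (Fin 2) F)) = Fintype.card F + 1 := by
  classical
  have h1 := S0258.result (F := F) rfl r
  rw [← h1]
  set f : SpecialLinearGroup (Fin 2) F →* GL (Fin 2) F := SpecialLinearGroup.toGL with hf
  have hinj : Function.Injective f := SpecialLinearGroup.toGL_injective
  have hrange : f.range = (GeneralLinearGroup.det (n := Fin 2) (R := F)).ker := by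
    ext g
    rw [MonoidHom.mem_ker]
    constructor
    · rintro ⟨s, rfl⟩
      ext
      simp [hf]
    · intro hg
      refine ⟨⟨(g : Matrix (Fin 2) (Fin 2) F), ?_⟩, ?_⟩
      · have := congrArg Units.val hg
        simpa using this
      · ext i j
        rfl
  have hn : f.range.Normal := by rw [hrange]; infer_instance
  have hidx : ¬ r ∣ f.range.index := by
    rw [hrange]
    intro hd
    have h2 : (GeneralLinearGroup.det (n := Fin 2) (R := F)).ker.index ∣ Nat.card Fˣ := by
      rw [Subgroup.index_ker]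
      exact Subgroup.card_subgroup_dvd_card _
    have h3 := hd.trans h2
    rw [Nat.card_units, Nat.card_eq_fintype_card] at h3
    have h4 : r ∣ Fintype.card F := by
      obtain ⟨n, -, hn⟩ := FiniteField.card F r
      rw [hn]
      exact dvd_pow_self r n.ne_zero
    have h5 : 1 ≤ Fintype.card F := Fintype.card_pos
    have h6 : r ∣ 1 := by
      have := Nat.dvd_sub h4 h3
      rwa [Nat.sub_sub_self h5] at this
    exact hr.out.one_lt.ne' (Nat.dvd_one.1 h6)
  rw [← card_sylow_normal f.range hidx]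
  exact H482.SylowNumbers.card_sylow_congr r (MonoidHom.ofInjective hinj)

end SL

section Long

open Cfsg.Agent.SignalizersComponents Cfsg.Agent.SignalizersComponents.Components
  Cfsg.Agent.SignalizersComponents.CompBasic

universe u

variable {G : Type u} [Group G] [Finite G] {p r : ℕ} [hp : Fact p.Prime] [hr : Fact r.Prime] {H L : Subgroup G}

/-- `J` subnormal in `C_L(j)` is subnormal in `C_G(j)`. -/
theorem subnormal_centralizer (hn : L.Normal) {j : ↥L} {J : Subgroup ↥L} (hJ : J ≤ centralizer ({j} : Set ↥L))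
    (hs : (J.subgroupOf (centralizer ({j} : Set ↥L))).IsSubnormal) :
    ((J.map L.subtype).subgroupOf (centralizer ({(j : G)} : Set G))).IsSubnormal := by
  set D : Subgroup G := centralizer ({(j : G)} : Set G) with hD
  set D0 : Subgroup ↥D := L.subgroupOf D with hD0
  have hD0n : D0.Normal := hn.subgroupOf D
  have hmem : ∀ x : ↥D0, (⟨((x : ↥D) : G), x.2⟩ : ↥L) ∈ centralizer ({j} : Set ↥L) := by
    intro x
    rw [mem_centralizer_singleton_iff]
    exact Subtype.ext (mem_centralizer_singleton_iff.1 x.1.2)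
  let f : ↥D0 →* ↥(centralizer ({j} : Set ↥L)) :=
    { toFun := fun x => ⟨⟨((x : ↥D) : G), x.2⟩, hmem x⟩
      map_one' := rfl
      map_mul' := fun _ _ => rfl }
  have h1 : (((J.map L.subtype).subgroupOf D).subgroupOf D0).IsSubnormal := by
    have h2 := hs.comap f
    have h3 : (J.subgroupOf (centralizer ({j} : Set ↥L))).comap f = ((J.map L.subtype).subgroupOf D).subgroupOf D0 := by
      ext x
      rw [mem_comap, mem_subgroupOf, mem_subgroupOf, mem_subgroupOf]
      constructor
      · intro h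
        exact ⟨_, h, rfl⟩
      · rintro ⟨y, hy, e⟩
        have : y = ((f x : ↥(centralizer ({j} : Set ↥L))) : ↥L) := Subtype.ext e
        rw [← this]
        exact hy
    rwa [h3] at h2
  refine h1.trans ?_ hD0n.isSubnormal
  intro x hx
  rw [mem_subgroupOf] at hx ⊢
  obtain ⟨y, -, e⟩ := hx
  rw [← e]
  exact y.2

/-- **The classical involution, `p ∤ q + 1`.** -/
theorem Cex.long_not_dvd (C : Cex p H L) (hL : HasFilt r ↥L) (hpr : p ≠ r) {j : ↥L} {J : Subgroup ↥L}
    (hJ : J ≤ centralizer ({j} : Set ↥L)) (hs : (J.subgroupOf (centralizer ({j} : Set ↥L))).IsSubnormal)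
    (hj : orderOf j = 2) {F : Type*} [Field F] [Fintype F] (hF : r ∣ Fintype.card F)
    (e : ↥J ≃* Matrix.SpecialLinearGroup (Fin 2) F) (hpq : ¬ p ∣ Fintype.card F + 1) :
    ¬ p ∣ Nat.card (centralizer ({(j : G)} : Set G)) := by
  intro hd
  have hn := C.nrm
  have hjo : orderOf (j : G) = 2 := by rw [Subgroup.orderOf_coe]; exact hj
  obtain ⟨E, hE, hEj⟩ := C.inv hjo hd
  set D : Subgroup G := centralizer ({(j : G)} : Set G) with hD
  set JG : Subgroup G := J.map L.subtype with hJG
  have hJL : JG ≤ L := Subgroup.map_subtype_le _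
  have hJD : JG ≤ D := by
    rintro _ ⟨x, hx, rfl⟩
    rw [hD, mem_centralizer_singleton_iff]
    exact congrArg Subtype.val (mem_centralizer_singleton_iff.1 (hJ hx))
  have hsub : (JG.subgroupOf D).IsSubnormal := subnormal_centralizer hn hJ hs
  have hcardJ : Nat.card JG = Nat.card J := Subgroup.card_map_of_injective L.subtype_injective
  have hcardF : Nat.card J = Fintype.card F * (Fintype.card F ^ 2 - 1) := by
    classical
    rw [Nat.card_congr e.toEquiv, ClassicalGeometry.MinIndexPSL2.card_sl2, Nat.card_eq_fintype_card]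
  have hrJ : r ∣ Nat.card JG := by
    rw [hcardJ, hcardF]; exact hF.mul_right _
  have hE0 : ∀ e ∈ E, ∀ x ∈ D, e * x * e⁻¹ ∈ D := fun e he x hx =>
    mul_mem (mul_mem (hEj he) hx) (inv_mem (hEj he))
  by_cases hpJ : p ∣ Nat.card J
  · -- `p ∣ q - 1`
    have hchar : p ∣ Fintype.card F - 1 := by
      rw [hcardF] at hpJ
      rcases hp.out.dvd_mul.1 hpJ with h1 | h1
      · exfalso
        obtain ⟨r', hcr⟩ := CharP.exists F
        have hr'p : r'.Prime := (CharP.char_is_prime_or_zero F r').resolve_right (CharP.char_ne_zero_of_finite F r')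
        have : Fact r'.Prime := ⟨hr'p⟩
        obtain ⟨n, -, hn⟩ := FiniteField.card F r'
        rw [hn] at h1 hF
        have h2 := (Nat.prime_dvd_prime_iff_eq hp.out hr'p).1 (hp.out.dvd_of_dvd_pow h1)
        have h3 := (Nat.prime_dvd_prime_iff_eq hr.out hr'p).1 (hr.out.dvd_of_dvd_pow hF)
        exact hpr (h2.trans h3.symm)
      · have h2 : Fintype.card F ^ 2 - 1 = (Fintype.card F + 1) * (Fintype.card F - 1) := by
          have := Nat.sq_sub_sq (Fintype.card F) 1
          rwa [one_pow] at this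
        rw [h2] at h1
        exact (hp.out.dvd_mul.1 h1).resolve_left hpq
    have hq1 : 1 < Fintype.card F := Fintype.one_lt_card
    have hp3 : 3 ≤ p := by
      have h1 := hp.out.two_le
      have h2 := C.odd
      omega
    have hq3 : 3 < Fintype.card F := by
      have := Nat.le_of_dvd (by omega) hchar
      omega
    have hqs : IsQuasisimple ↥JG := by
      have e' : ↥JG ≃* Matrix.SpecialLinearGroup (Fin 2) F :=
        (J.equivMapOfInjective _ L.subtype_injective).symm.trans e
      refine isQuasisimple_of_mulEquiv e'.symm (SLQuasisimple.isQuasisimple_two ?_)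
      rw [Nat.card_eq_fintype_card]
      omega
    have hcomp : IsComponent (JG.subgroupOf D) :=
      ⟨hsub, isQuasisimple_of_mulEquiv (subgroupOfEquivOfLe hJD).symm hqs⟩
    -- the characteristic of `F` is `r`
    have hcharr : CharP F r := by
      obtain ⟨r', hcr⟩ := CharP.exists F
      have hr'p : r'.Prime := (CharP.char_is_prime_or_zero F r').resolve_right (CharP.char_ne_zero_of_finite F r')
      have : Fact r'.Prime := ⟨hr'p⟩
      obtain ⟨n, -, hn⟩ := FiniteField.card F r'
      rw [hn] at hF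
      have h3 := (Nat.prime_dvd_prime_iff_eq hr.out hr'p).1 (hr.out.dvd_of_dvd_pow hF)
      rw [h3]; exact hcr
    have hS : ¬ p ∣ Nat.card (Sylow r ↥JG) := by
      have e' : ↥JG ≃* Matrix.SpecialLinearGroup (Fin 2) F :=
        (J.equivMapOfInjective _ L.subtype_injective).symm.trans e
      rw [H482.SylowNumbers.card_sylow_congr r e', card_sylow_sl r]
      exact hpq
    obtain ⟨K, hK, hK1, hEK, hKN⟩ := exists_inv_rgroup (r := r) hE.isPGroup (J := JG) (fun e he => by
      by_cases h1 : cj e JG = JG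
      · exact Or.inl h1
      · right
        have hc2 : IsComponent (((JG.subgroupOf D)).map (MulAut.conj (⟨e, hEj he⟩ : ↥D)).toMonoidHom) :=
          isComponent_conj _ hcomp
        have hmap : (((JG.subgroupOf D)).map (MulAut.conj (⟨e, hEj he⟩ : ↥D)).toMonoidHom).map D.subtype = cj e JG := by
          rw [Subgroup.map_map]
          have h4 : D.subtype.comp (MulAut.conj (⟨e, hEj he⟩ : ↥D)).toMonoidHom =
              ((MulAut.conj e).toMonoidHom).comp D.subtype := by
            ext x; rfl
          rw [h4, ← Subgroup.map_map, Subgroup.subgroupOf_map_subtype, inf_eq_left.2 hJD]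
          rfl
        have hne : ((JG.subgroupOf D)).map (MulAut.conj (⟨e, hEj he⟩ : ↥D)).toMonoidHom ≠ JG.subgroupOf D := by
          intro h2
          apply h1
          rw [← hmap, h2, Subgroup.subgroupOf_map_subtype, inf_eq_left.2 hJD]
        have h5 := component_le_centralizer_of_ne hc2 hcomp hne
        intro x hx y hy
        rw [← hmap] at hx
        obtain ⟨x', hx', rfl⟩ := hx
        have h6 := mem_centralizer_iff.1 (h5 hx') ⟨y, hJD hy⟩ (mem_subgroupOf.2 hy)
        exact (congrArg Subtype.val h6).symm) hS hrJ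
    refine C.no_local hL hpr hE (hKN L fun e _ => ?_) hK hK1 hEK
    have h7 : cj e L = L := by
      rw [← mem_normalizer_iff_cj, Subgroup.normalizer_eq_top]
      trivial
    rw [← h7]
    exact cj_mono e hJL
  · -- `p` does not divide `|J|`
    set M0 : Subgroup ↥D := pPrimeCore p ↥D ⊓ L.subgroupOf D with hM0
    have hM0n : M0.Normal := by
      have h1 : (pPrimeCore p ↥D).Normal := Lib.Cores.pPrimeCore_normal p
      have h2 : (L.subgroupOf D).Normal := hn.subgroupOf D
      exact Subgroup.normal_inf_normal _ _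
    have hJM0 : JG.subgroupOf D ≤ M0 := by
      refine le_inf (subnormal_coprime_le_pPrimeCore hsub ?_) ?_
      · rw [Nat.card_congr (subgroupOfEquivOfLe hJD).toEquiv, hcardJ]
        exact coprime_of_not_dvd hpJ
      · intro x hx
        exact mem_subgroupOf.2 (hJL (mem_subgroupOf.1 hx))
    set M : Subgroup G := M0.map D.subtype with hM
    have hJM : JG ≤ M := fun x hx => ⟨⟨x, hJD hx⟩, hJM0 (mem_subgroupOf.2 hx), rfl⟩
    have hML : M ≤ L := by
      rintro _ ⟨x, hx, rfl⟩
      exact mem_subgroupOf.1 hx.2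
    have hMcard : Nat.card M = Nat.card M0 := Subgroup.card_map_of_injective D.subtype_injective
    have hMp : ¬ p ∣ Nat.card M := by
      rw [hMcard]
      intro h
      have h1 := Lib.Cores.pPrimeCore_coprime (G := ↥D) p
      have h2 := h.trans (Subgroup.card_dvd_of_le (inf_le_left : M0 ≤ pPrimeCore p ↥D))
      exact (hp.out.coprime_iff_not_dvd.1 h1.symm) h2
    have hinv : ∀ e ∈ E, cj e M = M := by
      intro e he
      have hsub' : ∀ e ∈ E, cj e M ≤ M := by
        rintro e he _ ⟨_, ⟨x, hx, rfl⟩, rfl⟩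
        exact ⟨_, hM0n.conj_mem x hx ⟨e, hEj he⟩, rfl⟩
      refine le_antisymm (hsub' e he) ?_
      have h1 := cj_mono e (hsub' e⁻¹ (inv_mem he))
      rwa [cj_cj_inv] at h1
    have hS : ¬ p ∣ Nat.card (Sylow r ↥M) := by
      intro h
      obtain ⟨P⟩ : Nonempty (Sylow r ↥M) := inferInstance
      have h1 := h.trans P.card_dvd_index
      exact hMp (h1.trans (Subgroup.index_dvd_card _))
    obtain ⟨K, hK, hK1, hEK, hKN⟩ := exists_inv_rgroup (r := r) hE.isPGroup (J := M) (fun e he => Or.inl (hinv e he)) hS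
      (hrJ.trans (Subgroup.card_dvd_of_le hJM))
    exact C.no_local hL hpr hE (hKN L fun e he => by rw [hinv e he]; exact hML) hK hK1 hEK

/-- the same for `q ^ 2 - 1` -/
theorem Cex.long_not_dvd' (C : Cex p H L) (hL : HasFilt r ↥L) (hpr : p ≠ r) {j : ↥L} {J : Subgroup ↥L}
    (hJ : J ≤ centralizer ({j} : Set ↥L)) (hs : (J.subgroupOf (centralizer ({j} : Set ↥L))).IsSubnormal)
    (hj : orderOf j = 2) {F : Type*} [Field F] [Fintype F] (hF : r ∣ Fintype.card F)
    (e : ↥J ≃* Matrix.SpecialLinearGroup (Fin 2) F) (hpq : ¬ p ∣ Fintype.card F + 1) :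
    ¬ p ∣ Fintype.card F ^ 2 - 1 := by
  intro h
  apply C.long_not_dvd hL hpr hJ hs hj hF e hpq
  have h1 : Nat.card J = Fintype.card F * (Fintype.card F ^ 2 - 1) := by
    classical
    rw [Nat.card_congr e.toEquiv, ClassicalGeometry.MinIndexPSL2.card_sl2, Nat.card_eq_fintype_card]
  have h2 : Nat.card (J.map L.subtype) = Nat.card J := Subgroup.card_map_of_injective L.subtype_injective
  have h3 : J.map L.subtype ≤ centralizer ({(j : G)} : Set G) := by
    rintro _ ⟨x, hx, rfl⟩
    rw [mem_centralizer_singleton_iff]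
    exact congrArg Subtype.val (mem_centralizer_singleton_iff.1 (hJ hx))
  have h4 := Subgroup.card_dvd_of_le h3
  rw [h2, h1] at h4
  exact (h.mul_left _).trans h4

end Long

end Cfsg.Agent.H233.T
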