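import Mathlib
import Cfsg.Agent.KFacts.RgdPar
import Cfsg.Agent.H233.Cex

/-!
# Commuting pairs in parabolic subgroups

* `HasPair r p L` : commuting subgroups `A`, `B` of order divisible by `p`, `p ∤ |A ∩ B|`, normalising a nontrivial `r`-subgroup;
* `Cex.no_pair`; `HasPair.of_equiv`;
* `exists_rad` : in a root group datum with finite Weyl group, a nonzero additive functional `f` gives a nontrivial `r`-subgroup
  normalised by the torus and by all `X a` with `f a = 0`;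
* `exists_functional` : two vectors of `ℤ^I`, `|I| ≥ 3`, are killed by a nonzero functional;
* `hasPair_of_rgd` : the pair given by two roots.
-/

set_option autoImplicit false
set_option linter.unusedSectionVars false

namespace Cfsg.Agent.H233.T

open Cfsg Subgroup Cfsg.Agent.EvenType.StrongP Cfsg.Agent.H233.Core Cfsg.Agent.H233.Rloc Cfsg.Agent.KFacts.RgdFilt

/-- commuting subgroups of order divisible by `p` with `p ∤ |A ∩ B|` normalising a nontrivial `r`-subgroup -/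
def HasPair (r p : ℕ) (L : Type*) [Group L] : Prop :=
  ∃ A B K : Subgroup L, (∀ a ∈ A, ∀ b ∈ B, a * b = b * a) ∧ p ∣ Nat.card A ∧ p ∣ Nat.card B ∧ ¬ p ∣ Nat.card ↥(A ⊓ B) ∧
    IsPGroup r K ∧ K ≠ ⊥ ∧ A ≤ normalizer (K : Set L) ∧ B ≤ normalizer (K : Set L)

section

variable {L : Type*} [Group L] {r p : ℕ}

theorem HasPair.of_equiv {L' : Type*} [Group L'] (h : HasPair r p L) (e : L ≃* L') : HasPair r p L' := by
  obtain ⟨A, B, K, hc, hA, hB, hAB, hK, hK1, hAK, hBK⟩ := h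
  have hinj : Function.Injective (e : L →* L') := e.injective
  refine ⟨A.map (e : L →* L'), B.map (e : L →* L'), K.map (e : L →* L'), ?_, ?_, ?_, ?_, hK.map _, ?_, ?_, ?_⟩
  · rintro _ ⟨a, ha, rfl⟩ _ ⟨b, hb, rfl⟩
    rw [← map_mul, hc a ha b hb, map_mul]
  · rwa [Subgroup.card_map_of_injective hinj]
  · rwa [Subgroup.card_map_of_injective hinj]
  · rw [← Subgroup.map_inf _ _ _ hinj, Subgroup.card_map_of_injective hinj]
    exact hAB
  · intro h0
    exact hK1 ((Subgroup.map_eq_bot_iff_of_injective _ hinj).1 h0)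
  · exact (Subgroup.map_mono hAK).trans (Subgroup.le_normalizer_map _)
  · exact (Subgroup.map_mono hBK).trans (Subgroup.le_normalizer_map _)

variable [Finite L] [hp : Fact p.Prime]

/-- Two elements of order `p` of the two factors generate a noncyclic elementary abelian group. -/
theorem sq_of_two {a b : L} (hab : a * b = b * a) (ha : a ^ p = 1) (hb : b ^ p = 1) (ha1 : a ≠ 1)
    (hb1 : b ∉ zpowers a) : Sq p (zpowers a ⊔ zpowers b) := by
  have hcomm : ∀ x ∈ zpowers a, ∀ y ∈ zpowers b, x * y = y * x := by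
    rintro _ ⟨i, rfl⟩ _ ⟨j, rfl⟩
    exact ((Commute.zpow_zpow (show Commute a b from hab) i j)).eq
  have hmem : ∀ x ∈ zpowers a ⊔ zpowers b, ∃ i j : ℤ, x = a ^ i * b ^ j := by
    intro x hx
    have hn : zpowers b ≤ normalizer (zpowers a : Set L) := by
      refine le_trans ?_ (Subgroup.centralizer_le_normalizer _)
      intro y hy
      rw [Subgroup.mem_centralizer_iff]
      intro z hz
      exact hcomm z hz y hy
    have hx' : x ∈ ((zpowers a ⊔ zpowers b : Subgroup L) : Set L) := hx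
    rw [Subgroup.coe_mul_of_right_le_normalizer_left _ _ hn] at hx'
    obtain ⟨u, ⟨i, rfl⟩, v, ⟨j, rfl⟩, e⟩ := Set.mem_mul.1 hx'
    exact ⟨i, j, e.symm⟩
  have hcab : Commute a b := hab
  refine ⟨⟨⟨?_⟩⟩, ?_, ?_⟩
  · rintro ⟨x, hx⟩ ⟨y, hy⟩
    obtain ⟨i, j, rfl⟩ := hmem x hx
    obtain ⟨k, l, rfl⟩ := hmem y hy
    apply Subtype.ext
    show a ^ i * b ^ j * (a ^ k * b ^ l) = a ^ k * b ^ l * (a ^ i * b ^ j)
    have h1 : b ^ j * a ^ k = a ^ k * b ^ j := (hcab.zpow_zpow k j).eq.symm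
    have h2 : b ^ l * a ^ i = a ^ i * b ^ l := (hcab.zpow_zpow i l).eq.symm
    calc a ^ i * b ^ j * (a ^ k * b ^ l) = a ^ i * (b ^ j * a ^ k) * b ^ l := by group
      _ = a ^ i * (a ^ k * b ^ j) * b ^ l := by rw [h1]
      _ = a ^ k * (a ^ i * b ^ l) * b ^ j := by
        rw [show a ^ i * (a ^ k * b ^ j) * b ^ l = (a ^ i * a ^ k) * (b ^ j * b ^ l) by group,
          show a ^ k * (a ^ i * b ^ l) * b ^ j = (a ^ k * a ^ i) * (b ^ l * b ^ j) by group,
          ← zpow_add, ← zpow_add, ← zpow_add, ← zpow_add, add_comm i k, add_comm j l]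
      _ = a ^ k * (b ^ l * a ^ i) * b ^ j := by rw [h2]
      _ = _ := by group
  · intro x hx
    obtain ⟨i, j, rfl⟩ := hmem x hx
    rw [(hcab.zpow_zpow i j).mul_pow, ← zpow_natCast, ← zpow_natCast, ← zpow_mul, ← zpow_mul, mul_comm i, mul_comm j, zpow_mul,
      zpow_mul, zpow_natCast, zpow_natCast, ha, hb, one_zpow, one_zpow, mul_one]
  · have hoa : orderOf a = p := orderOf_eq_prime ha ha1
    have hob : orderOf b = p := orderOf_eq_prime hb (by rintro rfl; exact hb1 (one_mem _))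
    have hdis : zpowers a ⊓ zpowers b = ⊥ := by
      rw [eq_bot_iff]
      rintro x ⟨hx1, hx2⟩
      by_contra hne
      rw [Subgroup.mem_bot] at hne
      -- `x` generates `⟨b⟩`
      have hcard : Nat.card (zpowers x) = p := by
        have h1 : Nat.card (zpowers x) ∣ Nat.card (zpowers b) := Subgroup.card_dvd_of_le (zpowers_le.2 hx2)
        rw [Nat.card_zpowers b, hob] at h1
        rcases (Nat.dvd_prime hp.out).1 h1 with h2 | h2
        · exfalso
          rw [Nat.card_zpowers, orderOf_eq_one_iff] at h2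
          exact hne h2
        · exact h2
      have h2 : zpowers x = zpowers b :=
        Subgroup.eq_of_le_of_card_ge (zpowers_le.2 hx2) (by rw [hcard, Nat.card_zpowers, hob])
      apply hb1
      have h3 : zpowers x ≤ zpowers a := zpowers_le.2 hx1
      rw [h2] at h3
      exact h3 (mem_zpowers b)
    have hinj : Function.Injective (fun x : ↥(zpowers a) × ↥(zpowers b) => (⟨(x.1 : L) * x.2,
        Subgroup.mul_mem_sup x.1.2 x.2.2⟩ : ↥(zpowers a ⊔ zpowers b))) := by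
      rintro ⟨⟨x, hx⟩, ⟨y, hy⟩⟩ ⟨⟨x', hx'⟩, ⟨y', hy'⟩⟩ e
      have e1 : x * y = x' * y' := congrArg Subtype.val e
      have h1 : x'⁻¹ * x = y' * y⁻¹ := by
        rw [inv_mul_eq_iff_eq_mul, ← mul_assoc, ← e1, mul_inv_cancel_right]
      have h2 : x'⁻¹ * x ∈ zpowers a ⊓ zpowers b :=
        ⟨(zpowers a).mul_mem ((zpowers a).inv_mem hx') hx, by
          show x'⁻¹ * x ∈ zpowers b
          rw [h1]; exact (zpowers b).mul_mem hy' ((zpowers b).inv_mem hy)⟩
      rw [hdis, Subgroup.mem_bot] at h2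
      have h3 : x = x' := (inv_mul_eq_one.1 h2).symm
      have h4 : y = y' := by
        rw [h2] at h1
        exact (mul_inv_eq_one.1 h1.symm).symm
      subst h3
      subst h4
      rfl
    have := Nat.card_le_card_of_injective _ hinj
    rw [Nat.card_prod, Nat.card_zpowers, Nat.card_zpowers, hoa, hob, ← sq] at this
    exact this

/-- a noncyclic elementary abelian `p`-group in `A ⊔ B` -/
theorem HasPair.exists_sq (h : HasPair r p L) : ∃ E K : Subgroup L, Sq p E ∧ IsPGroup r K ∧ K ≠ ⊥ ∧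
    E ≤ normalizer (K : Set L) := by
  obtain ⟨A, B, K, hc, hA, hB, hAB, hK, hK1, hAK, hBK⟩ := h
  have key : ∀ (S : Subgroup L), p ∣ Nat.card S → ∃ a ∈ S, a ^ p = 1 ∧ a ≠ 1 := by
    intro S hS
    obtain ⟨⟨a, ha⟩, hao⟩ := exists_prime_orderOf_dvd_card' p hS
    refine ⟨a, ha, ?_, ?_⟩
    · have := pow_orderOf_eq_one (⟨a, ha⟩ : S)
      rw [hao] at this
      exact congrArg Subtype.val this
    · rintro rfl
      have h2 : (⟨1, ha⟩ : S) = 1 := rfl
      rw [h2, orderOf_one] at hao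
      exact hp.out.one_lt.ne hao
  obtain ⟨a, ha, hap, ha1⟩ := key A hA
  obtain ⟨b, hb, hbp, hb1⟩ := key B hB
  refine ⟨zpowers a ⊔ zpowers b, K, sq_of_two (hc a ha b hb) hap hbp ha1 ?_, hK, hK1,
    sup_le (zpowers_le.2 (hAK ha)) (zpowers_le.2 (hBK hb))⟩
  intro hba
  apply hAB
  have h1 : b ∈ A ⊓ B := ⟨zpowers_le.2 ha hba, hb⟩
  have h2 : orderOf (⟨b, h1⟩ : ↥(A ⊓ B)) = p := by
    rw [Subgroup.orderOf_mk]
    exact orderOf_eq_prime hbp hb1
  rw [← h2]
  exact orderOf_dvd_natCard _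

end

theorem Cex.no_pair {G : Type*} [Group G] [Finite G] {r p : ℕ} [hp : Fact p.Prime] [hr : Fact r.Prime] {H L : Subgroup G}
    (C : Cex p H L) (hL : HasFilt r ↥L) (hpr : p ≠ r) (h : HasPair r p ↥L) : False := by
  obtain ⟨E, K, hE, hK, hK1, hEK⟩ := h.exists_sq
  refine C.no_local hL hpr (hE.map L.subtype L.subtype_injective) (K := K.map L.subtype) (Subgroup.map_subtype_le _) (hK.map _)
    (fun h0 => hK1 ((Subgroup.map_eq_bot_iff_of_injective _ L.subtype_injective).1 h0)) ?_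
  exact (Subgroup.map_mono hEK).trans (Subgroup.le_normalizer_map _)

/-! ### Root group data -/

section

open CoxeterSystem Cfsg.Agent.ChevalleyStructure.CoxeterGeom Cfsg.Agent.Tits.Roots Cfsg.Agent.Tits.Core
  Cfsg.Agent.Tits.RootComb Cfsg.Agent.Tits.Exchange Cfsg.Agent.Nodes.Reps Cfsg.Agent.Nodes.BNOf
  Cfsg.Agent.Nodes.StabComb Cfsg.Agent.Nodes.Bruhat Cfsg.Agent.Nodes.OppDec Cfsg.Agent.Nodes.LeviDec
  Cfsg.Agent.KFacts.RgdPar

variable {I W Y : Type*} [Fintype I] [DecidableEq I] [Group W] [Group Y] {M : CoxeterMatrix I}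
  {cs : CoxeterSystem M W} {A : I → I → ℤ} {h : IsCartan M A} {p : ℕ} {T : Subgroup Y} {n : I → Y}
  {X : (I → ℤ) → Subgroup Y}

theorem exists_rad [Finite W] (R : RGD cs h p T n X) (f : (I → ℤ) →+ ℤ) {i : I} (hi : f (sr i) ≠ 0) :
    ∃ K : Subgroup Y, K ≠ ⊥ ∧ IsPGroup p K ∧ T ≤ normalizer (K : Set Y) ∧
      ∀ a, IsRoot cs h a → f a = 0 → X a ≤ normalizer (K : Set Y) := by
  obtain ⟨w, hw⟩ := exists_dom (cs := cs) (h := h) f
  obtain ⟨g, hg⟩ := exists_rp cs R.nsys w
  set J : Set I := {i | pull cs h f w (sr i) = 0} with hJ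
  -- a node outside `J`
  obtain ⟨k, hk⟩ : ∃ k, k ∉ J := by
    by_contra hcon
    push Not at hcon
    apply hi
    have h1 : ∀ x, pull cs h f w x = 0 := by
      intro x
      rw [map_eq_sum]
      exact Finset.sum_eq_zero fun k _ => by rw [show pull cs h f w (sr k) = 0 from hcon k, mul_zero]
    have h2 := h1 (rep cs h w⁻¹ (sr i))
    rwa [pull_apply, rep_apply_inv] at h2
  have hV : cj g (VJ cs h X J) ≠ ⊥ := by
    intro h0
    have h1 : X (sr k) ≤ VJ cs h X J := by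
      refine RGD.le_Sup (S := NotJ cs h J) ?_
      refine ⟨isRoot_sr cs h k, sr_nonneg k, k, hk, ?_⟩
      rw [sr_self]; exact one_pos
    have h2 : VJ cs h X J = ⊥ := by
      have h3 : cj g⁻¹ (cj g (VJ cs h X J)) = VJ cs h X J := by rw [← cj_mul, inv_mul_cancel, cj_one]
      rw [← h3, h0]
      exact Subgroup.map_bot _
    rw [h2, le_bot_iff] at h1
    exact X_ne_bot R (isRoot_sr cs h k) h1
  have hN : ∀ S : Subgroup Y, S ≤ normalizer (VJ cs h X J : Set Y) → cj g S ≤ normalizer (cj g (VJ cs h X J) : Set Y) :=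
    fun S hS => (Subgroup.map_mono hS).trans (Subgroup.le_normalizer_map _)
  refine ⟨cj g (VJ cs h X J), hV, ?_, ?_, ?_⟩
  · exact ((R.isPGroup_Upos).to_le (VJ_le_U J)).map _
  · have h1 := hN T (T_le_LJ.trans (LJ_le_normalizer_VJ R J))
    rwa [cj_T R hg] at h1
  · intro a ha h0
    have h1 : IsRoot cs h (rep cs h w⁻¹ a) := ha.act w⁻¹
    have h2 : X (rep cs h w⁻¹ a) ≤ LJ cs h T X J := by
      apply X_le_LJ
      rw [hJ, rootsJ_eq hw]
      refine ⟨h1, ?_⟩
      show pull cs h f w _ = 0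
      rw [pull_apply, rep_apply_inv, h0]
    have h3 := hN _ (h2.trans (LJ_le_normalizer_VJ R J))
    rwa [R.conj_rp hg h1, rep_apply_inv] at h3

/-- Two vectors are killed by a nonzero functional. -/
theorem exists_functional (hI : 3 ≤ Fintype.card I) (a b : I → ℤ) :
    ∃ f : (I → ℤ) →+ ℤ, (∃ i, f (sr i) ≠ 0) ∧ f a = 0 ∧ f b = 0 := by
  obtain ⟨t, ht0, ht, -⟩ := Int.Matrix.exists_ne_zero_int_vec_norm_le (![a, b] : Matrix (Fin 2) I ℤ)
    (by rw [Fintype.card_fin]; omega) (by rw [Fintype.card_fin]; omega)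
  obtain ⟨i, hi⟩ := Function.ne_iff.1 ht0
  let f : (I → ℤ) →+ ℤ := ⟨⟨fun x => x ⬝ᵥ t, zero_dotProduct t⟩, fun x y => add_dotProduct x y t⟩
  have hf : ∀ x, f x = x ⬝ᵥ t := fun _ => rfl
  refine ⟨f, ⟨i, ?_⟩, congrFun ht 0, congrFun ht 1⟩
  have h1 : f (sr i) = t i := by
    rw [hf, dotProduct, Finset.sum_eq_single i]
    · rw [sr_self, one_mul]
    · intro k _ hk
      rw [sr_ne hk, zero_mul]
    · intro hj
      exact absurd (Finset.mem_univ i) hj
  rw [h1]
  exact hi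

/-- **The pair given by two roots.** -/
theorem hasPair_of_rgd [Finite W] (R : RGD cs h p T n X) (hI : 3 ≤ Fintype.card I) {a b : I → ℤ} (ha : IsRoot cs h a)
    (hb : IsRoot cs h b) {q : ℕ} {A' B' : Subgroup Y} (hA : A' ≤ X a ⊔ X (-a)) (hB : B' ≤ X b ⊔ X (-b))
    (hc : ∀ x ∈ A', ∀ y ∈ B', x * y = y * x) (hqA : q ∣ Nat.card A') (hqB : q ∣ Nat.card B')
    (hAB : ¬ q ∣ Nat.card ↥(A' ⊓ B')) : HasPair p q Y := by
  obtain ⟨f, ⟨i, hi⟩, fa, fb⟩ := exists_functional (I := I) hI a b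
  obtain ⟨K, hK1, hK, -, hKX⟩ := exists_rad R f hi
  refine ⟨A', B', K, hc, hqA, hqB, hAB, hK, hK1, hA.trans (sup_le (hKX a ha fa) (hKX _ ha.neg (by rw [map_neg, fa, neg_zero]))),
    hB.trans (sup_le (hKX b hb fb) (hKX _ hb.neg (by rw [map_neg, fb, neg_zero])))⟩

end

end Cfsg.Agent.H233.T
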