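import Mathlib
import Cfsg.Agent.H233.LongInv
import Cfsg.Agent.H233.Pair

/-!
# Theorem T (S2865, S2866, S2867, S2935): the rows of odd characteristic `r ≠ p`

* `LongP q j J` : `j` is an involution, `j ∈ J ≅ SL₂(q)`, `q` odd, `J` subnormal in `C(j)`;
* `Bad r p q E` : the noncyclic elementary abelian `p`-subgroup `E` of `X` normalises no nontrivial `r`-subgroup, and its elements
  do not commute with long involutions;
* `LongFix r p q X` : if there is a bad `E`, then `p` divides the order of the centraliser of a long involution, or of an involution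
  `s` such that `C_X(s)` contains no bad subgroups;
* `OuterFix r p q X` : an outer automorphism of `X` of order `p` normalising a Sylow `r`-subgroup fixes a long involution;
* `Cex.row_false` : `LongFix` and `OuterFix` exclude the row `L ≅ X` if `p ∤ q² - 1`;
* `Cex.pair_false` : `HasPair` excludes the row `L ≅ X` (for `p ∣ q² - 1`).
-/

set_option autoImplicit false
set_option linter.unusedSectionVars false

namespace Cfsg.Agent.H233.T

open Cfsg Subgroup Cfsg.Agent.EvenType.StrongP Cfsg.Agent.H233.Core Cfsg.Agent.H233.Rloc Cfsg.Agent.KFacts.RgdFilt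

/-- `j` is an involution of `J ≅ SL₂(q)`, `q` odd, `J` subnormal in `C(j)` -/
def LongP (q : ℕ) {X : Type*} [Group X] (j : X) (J : Subgroup X) : Prop :=
  orderOf j = 2 ∧ j ∈ J ∧ J ≤ centralizer ({j} : Set X) ∧ (J.subgroupOf (centralizer ({j} : Set X))).IsSubnormal ∧
    ∃ (F : Type) (_ : Field F) (_ : Fintype F), Fintype.card F = q ∧ Odd q ∧
      Nonempty (↥J ≃* Matrix.SpecialLinearGroup (Fin 2) F)

/-- `E` is a noncyclic elementary abelian `p`-group, normalises no nontrivial `r`-subgroup, and its elements do not commute with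
long involutions. -/
def Bad (r p q : ℕ) {X : Type*} [Group X] (E : Subgroup X) : Prop :=
  Sq p E ∧ (∀ K : Subgroup X, IsPGroup r ↥K → K ≠ ⊥ → ¬ E ≤ normalizer (K : Set X)) ∧
    ∀ (j : X) (J : Subgroup X), LongP q j J → ∀ a ∈ E, a ≠ 1 → a * j ≠ j * a

/-- If `X` has a bad subgroup, then `p` divides the order of the centraliser of a long involution, or of an involution `s` whose
centraliser contains no bad subgroups. -/
def LongFix (r p q : ℕ) (X : Type*) [Group X] : Prop :=
  ∀ E : Subgroup X, Bad r p q E →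
    (∃ (j : X) (J : Subgroup X), LongP q j J ∧ p ∣ Nat.card ↥(centralizer ({j} : Set X))) ∨
    ∃ s : X, orderOf s = 2 ∧ p ∣ Nat.card ↥(centralizer ({s} : Set X)) ∧
      ∀ E' : Subgroup X, E' ≤ centralizer ({s} : Set X) → ¬ Bad r p q E'

/-- An automorphism of order `p` of `X` which is not inner and normalises a Sylow `r`-subgroup fixes a long involution. -/
def OuterFix (r p q : ℕ) (X : Type*) [Group X] : Prop :=
  ∀ (φ : MulAut X) (U : Sylow r X), orderOf φ = p → φ ∉ (MulAut.conj (G := X)).range →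
    (U : Subgroup X).map φ.toMonoidHom = U → ∃ (j : X) (J : Subgroup X), LongP q j J ∧ φ j = j

section

variable {X Y : Type*} [Group X] [Group Y] {r p q : ℕ}

theorem LongP.map {j : X} {J : Subgroup X} (h : LongP q j J) (e : X ≃* Y) : LongP q (e j) (J.map (e : X →* Y)) := by
  obtain ⟨h1, h2, h3, h4, F, i1, i2, h5, h6, ⟨f⟩⟩ := h
  have hc : (centralizer ({j} : Set X)).map (e : X →* Y) = centralizer ({e j} : Set Y) := by
    ext y
    constructor
    · rintro ⟨x, hx, rfl⟩
      rw [mem_centralizer_singleton_iff]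
      have h7 := mem_centralizer_singleton_iff.1 hx
      show e x * e j = e j * e x
      rw [← map_mul, h7, map_mul]
    · intro hy
      refine ⟨e.symm y, ?_, e.apply_symm_apply y⟩
      show e.symm y ∈ centralizer ({j} : Set X)
      rw [mem_centralizer_singleton_iff] at hy ⊢
      apply e.injective
      rw [map_mul, map_mul, e.apply_symm_apply, hy]
  refine ⟨?_, ⟨j, h2, rfl⟩, ?_, ?_, F, i1, i2, h5, h6, ⟨?_⟩⟩
  · rw [← h1]
    exact orderOf_injective (e : X →* Y) e.injective j
  · rw [← hc]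
    exact Subgroup.map_mono h3
  · rw [← hc]
    let g : ↥(centralizer ({j} : Set X)) ≃* ↥((centralizer ({j} : Set X)).map (e : X →* Y)) :=
      (centralizer ({j} : Set X)).equivMapOfInjective (e : X →* Y) e.injective
    have h7 : (J.map (e : X →* Y)).subgroupOf ((centralizer ({j} : Set X)).map (e : X →* Y)) =
        (J.subgroupOf (centralizer ({j} : Set X))).map (g : _ →* _) := by
      ext ⟨y, hy⟩
      constructor
      · rintro ⟨x, hx, hxy⟩
        exact ⟨⟨x, h3 hx⟩, hx, Subtype.ext hxy⟩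
      · rintro ⟨⟨x, hx⟩, hxJ, hxy⟩
        exact ⟨x, hxJ, congrArg Subtype.val hxy⟩
    rw [h7]
    exact h4.map g.surjective
  · exact (J.equivMapOfInjective (e : X →* Y) e.injective).symm.trans f

theorem map_symm (e : X ≃* Y) (S : Subgroup Y) : (S.map (e.symm : Y →* X)).map (e : X →* Y) = S := by
  ext y
  constructor
  · rintro ⟨_, ⟨z, hz, rfl⟩, rfl⟩
    change e (e.symm z) ∈ S
    rwa [e.apply_symm_apply]
  · intro hy
    exact ⟨e.symm y, ⟨y, hy, rfl⟩, e.apply_symm_apply y⟩

theorem Bad.map {E : Subgroup X} (h : Bad r p q E) (e : X ≃* Y) : Bad r p q (E.map (e : X →* Y)) := by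
  obtain ⟨h1, h2, h3⟩ := h
  refine ⟨h1.map _ e.injective, fun K hK hK1 hEK => ?_, ?_⟩
  · refine h2 (K.map (e.symm : Y →* X)) (hK.map _)
      (fun h0 => hK1 ((Subgroup.map_eq_bot_iff_of_injective _ e.symm.injective).1 h0)) ?_
    have h4 := (Subgroup.map_mono (f := (e.symm : Y →* X)) hEK).trans (Subgroup.le_normalizer_map _)
    have h5 := map_symm e.symm E
    rw [e.symm_symm] at h5
    rwa [h5] at h4
  · rintro j J hj _ ⟨a, ha, rfl⟩ ha1 hc
    refine h3 _ _ (hj.map e.symm) a ha (fun h0 => ha1 (by rw [h0, map_one])) ?_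
    apply e.injective
    rw [map_mul, map_mul, e.apply_symm_apply]
    exact hc

theorem LongFix.of_equiv (h : LongFix r p q X) (e : X ≃* Y) : LongFix r p q Y := by
  intro E hE
  have key : ∀ x : X, Nat.card ↥(centralizer ({x} : Set X)) ∣ Nat.card ↥(centralizer ({e x} : Set Y)) := by
    intro j
    refine Subgroup.card_dvd_of_injective (((e : X →* Y).comp (centralizer ({j} : Set X)).subtype).codRestrict _ ?_)
      (fun a b hab => ?_)
    · rintro ⟨x, hx⟩
      rw [mem_centralizer_singleton_iff] at hx ⊢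
      show e x * e j = e j * e x
      rw [← map_mul, hx, map_mul]
    · exact Subtype.ext (e.injective (congrArg Subtype.val hab))
  rcases h _ (hE.map e.symm) with ⟨j, J, hj, hd⟩ | ⟨s, hs, hd, hno⟩
  · exact Or.inl ⟨e j, _, hj.map e, hd.trans (key j)⟩
  · refine Or.inr ⟨e s, ?_, hd.trans (key s), fun E' hE' hB => hno _ ?_ (hB.map e.symm)⟩
    · rw [← hs]
      exact orderOf_injective (e : X →* Y) e.injective s
    · rintro _ ⟨y, hy, rfl⟩
      have h1 := mem_centralizer_singleton_iff.1 (hE' hy)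
      rw [mem_centralizer_singleton_iff]
      apply e.injective
      show e (e.symm y * s) = e (s * e.symm y)
      rw [map_mul, map_mul, e.apply_symm_apply, h1]

theorem OuterFix.of_equiv (h : OuterFix r p q X) (e : X ≃* Y) : OuterFix r p q Y := by
  intro φ U hφ hno hU
  have h1 : orderOf (MulAut.congr e.symm φ) = p := by
    rw [← hφ]
    exact orderOf_injective (MulAut.congr e.symm).toMonoidHom (MulAut.congr e.symm).injective φ
  obtain ⟨V, hV⟩ : ∃ V : Sylow r X, (V : Subgroup X) = (U : Subgroup Y).comap (e : X →* Y) := by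
    refine ⟨U.comapOfInjective (e : X →* Y) e.injective ?_, ?_⟩
    · rw [MonoidHom.range_eq_top.2 e.surjective]
      exact le_top
    · exact Sylow.coe_comapOfInjective _ _ _ _
  obtain ⟨j, J, hj, hd⟩ := h (MulAut.congr e.symm φ) V h1 (by
    rintro ⟨g, hg⟩
    apply hno
    refine ⟨e g, ?_⟩
    ext y
    have h2 := DFunLike.congr_fun hg (e.symm y)
    have h3 : g * e.symm y * g⁻¹ = e.symm (φ (e (e.symm y))) := h2
    rw [e.apply_symm_apply] at h3
    show e g * y * (e g)⁻¹ = φ y
    rw [← e.apply_symm_apply (φ y), ← h3, map_mul, map_mul, map_inv, e.apply_symm_apply]) (by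
    rw [hV]
    ext x
    constructor
    · rintro ⟨y, hy, rfl⟩
      have h2 : e y ∈ (U : Subgroup Y) := hy
      change e (e.symm (φ (e y))) ∈ (U : Subgroup Y)
      rw [e.apply_symm_apply, ← hU]
      exact ⟨e y, h2, rfl⟩
    · intro hx
      have h2 : e x ∈ (U : Subgroup Y) := hx
      rw [← hU] at h2
      obtain ⟨y, hy, hyx⟩ := h2
      refine ⟨e.symm y, ?_, ?_⟩
      · change e (e.symm y) ∈ (U : Subgroup Y)
        rwa [e.apply_symm_apply]
      · change e.symm (φ (e (e.symm y))) = x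
        rw [e.apply_symm_apply, e.symm_apply_eq]
        exact hyx)
  refine ⟨e j, _, hj.map e, ?_⟩
  have h2 : e.symm (φ (e j)) = j := hd
  conv_rhs => rw [← h2, e.apply_symm_apply]

end

section

variable {G : Type*} [Group G] [Finite G] {p : ℕ} [hp : Fact p.Prime] {H L : Subgroup G}

/-- a long involution has a centraliser of order prime to `p` -/
theorem Cex.longP_not_dvd (C : Cex p H L) {r : ℕ} [hr : Fact r.Prime] (hL : HasFilt r ↥L) (hpr : p ≠ r) {q : ℕ}
    (hq : r ∣ q) (hpq : ¬ p ∣ q + 1) {j : ↥L} {J : Subgroup ↥L} (h : LongP q j J) :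
    ¬ p ∣ Nat.card ↥(centralizer ({(j : G)} : Set G)) := by
  obtain ⟨h1, h2, h3, h4, F, i1, i2, h5, h6, ⟨f⟩⟩ := h
  subst h5
  exact C.long_not_dvd hL hpr h3 h4 h1 hq f hpq

theorem Cex.mem_iff_inner (C : Cex p H L) [hn : L.Normal] (x : G) :
    x ∈ L ↔ MulAut.conjNormal (H := L) x ∈ (MulAut.conj (G := ↥L)).range := by
  constructor
  · intro hx
    refine ⟨⟨x, hx⟩, ?_⟩
    ext y
    rw [MulAut.conjNormal_apply]
    rfl
  · rintro ⟨g, hg⟩
    have h3 : (g : G)⁻¹ * x ∈ centralizer (L : Set G) := by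
      rw [mem_centralizer_iff]
      intro y hy
      have h4 := DFunLike.congr_fun hg ⟨y, hy⟩
      have h5 : (g : G) * y * (g : G)⁻¹ = x * y * x⁻¹ := by
        have h6 := congrArg (Subtype.val) h4
        rw [MulAut.conjNormal_apply] at h6
        exact h6
      have h6 : x * y = (g : G) * y * (g : G)⁻¹ * x := by rw [h5]; group
      calc y * ((g : G)⁻¹ * x) = (g : G)⁻¹ * ((g : G) * y * (g : G)⁻¹ * x) := by group
        _ = (g : G)⁻¹ * (x * y) := by rw [← h6]
        _ = _ := by group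
    rw [C.cent, mem_bot] at h3
    have h4 : x = g := (inv_mul_eq_one.1 h3).symm
    rw [h4]
    exact g.2

/-- The elements of order `p` of `G` lie in `L`. -/
theorem Cex.outer_false (C : Cex p H L) {r : ℕ} [hr : Fact r.Prime] (hL : HasFilt r ↥L) (hpr : p ≠ r) {q : ℕ}
    (hq : r ∣ q) (hpq : ¬ p ∣ q + 1) (hB : ∀ U : Sylow r ↥L, ¬ p ∣ Nat.card ↥(normalizer ((U : Subgroup ↥L) : Set ↥L)))
    (h2 : OuterFix r p q ↥L) {x : G} (hxp : x ^ p = 1) : x ∈ L := by
  by_contra hxL
  have hn := C.nrm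
  obtain ⟨U⟩ : Nonempty (Sylow r ↥L) := inferInstance
  set UG : Subgroup G := (U : Subgroup ↥L).map L.subtype with hUG
  have hfr : normalizer (UG : Set G) ⊔ L = ⊤ := Sylow.normalizer_sup_eq_top (N := L) U
  -- `p` divides the index of `N_L(U)` in `N_G(U)`
  set D : Subgroup G := normalizer (UG : Set G) with hD
  have hidx : L.relIndex D = L.index := by
    rw [← Subgroup.relIndex_sup_right, hfr, Subgroup.relIndex_top_right]
  have hpi : p ∣ L.index := by
    rw [Subgroup.index_eq_card]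
    have h3 : orderOf (QuotientGroup.mk' L x) = p := by
      refine orderOf_eq_prime (by rw [← map_pow, hxp, map_one]) (fun h4 => hxL ?_)
      rwa [QuotientGroup.mk'_apply, QuotientGroup.eq_one_iff] at h4
    rw [← h3]
    exact orderOf_dvd_natCard _
  have hpD : p ∣ Nat.card D := by
    rw [← hidx] at hpi
    exact hpi.trans (Subgroup.relIndex_dvd_card _ _)
  obtain ⟨⟨y, hyD⟩, hyo⟩ := exists_prime_orderOf_dvd_card' p hpD
  rw [Subgroup.orderOf_mk] at hyo
  have hyL : y ∉ L := by
    intro hy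
    apply hB U
    have h3 : (⟨y, hy⟩ : ↥L) ∈ normalizer ((U : Subgroup ↥L) : Set ↥L) := by
      rw [Subgroup.mem_normalizer_iff]
      intro z
      have h4 := Subgroup.mem_normalizer_iff.1 hyD (z : G)
      have h5 : ∀ w : ↥L, (w : G) ∈ UG ↔ w ∈ (U : Subgroup ↥L) := by
        intro w
        constructor
        · rintro ⟨v, hv, e⟩
          rwa [← (Subtype.ext e : v = w)]
        · intro hw
          exact ⟨w, hw, rfl⟩
      exact (h5 z).symm.trans (h4.trans (h5 (⟨y, hy⟩ * z * ⟨y, hy⟩⁻¹)))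
    have h4 : orderOf (⟨⟨y, hy⟩, h3⟩ : ↥(normalizer ((U : Subgroup ↥L) : Set ↥L))) = p := by
      rw [Subgroup.orderOf_mk, Subgroup.orderOf_mk]
      exact hyo
    rw [← h4]
    exact orderOf_dvd_natCard _
  set φ : MulAut ↥L := MulAut.conjNormal (H := L) y with hφ
  have hyp : y ^ p = 1 := by rw [← hyo]; exact pow_orderOf_eq_one y
  have hno : φ ∉ (MulAut.conj (G := ↥L)).range := fun h3 => hyL ((C.mem_iff_inner y).2 h3)
  have hord : orderOf φ = p := by
    refine orderOf_eq_prime (by rw [← map_pow, hyp, map_one]) (fun h3 => hno ?_)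
    rw [h3]
    exact one_mem _
  have hU : (U : Subgroup ↥L).map φ.toMonoidHom = U := by
    refine Subgroup.eq_of_le_of_card_ge ?_ ?_
    · rintro _ ⟨z, hz, rfl⟩
      have h4 := (Subgroup.mem_normalizer_iff.1 hyD (z : G)).1 ⟨z, hz, rfl⟩
      obtain ⟨v, hv, e⟩ := h4
      have h5 : v = φ z := by
        apply Subtype.ext
        rw [hφ, MulAut.conjNormal_apply]
        exact e
      show φ z ∈ _
      rw [← h5]
      exact hv
    · rw [Subgroup.card_map_of_injective (f := φ.toMonoidHom) φ.injective]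
  obtain ⟨j, J, hj, hd⟩ := h2 φ U hord hno hU
  refine C.longP_not_dvd hL hpr hq hpq hj ?_
  have h3 : y ∈ centralizer ({(j : G)} : Set G) := by
    rw [mem_centralizer_singleton_iff]
    have h4 : y * (j : G) * y⁻¹ = j := by
      have h6 := congrArg (Subtype.val) hd
      rw [hφ, MulAut.conjNormal_apply] at h6
      exact h6
    calc y * (j : G) = y * (j : G) * y⁻¹ * y := by group
      _ = _ := by rw [h4]
  have h4 : orderOf (⟨y, h3⟩ : ↥(centralizer ({(j : G)} : Set G))) = p := by
    rw [Subgroup.orderOf_mk]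
    exact hyo
  rw [← h4]
  exact orderOf_dvd_natCard _

theorem sq_subgroupOf {E : Subgroup G} (hE : Sq p E) (hEL : E ≤ L) : Sq p (E.subgroupOf L) := by
  refine ⟨⟨⟨?_⟩⟩, ?_, ?_⟩
  · rintro ⟨a, ha⟩ ⟨b, hb⟩
    have h3 : (⟨(a : G), ha⟩ : E) * ⟨(b : G), hb⟩ = ⟨(b : G), hb⟩ * ⟨(a : G), ha⟩ := hE.1.is_comm.comm _ _
    have h4 : (a : G) * b = b * a := congrArg Subtype.val h3
    exact Subtype.ext (Subtype.ext h4)
  · intro a ha
    exact Subtype.ext (hE.2.1 a ha)
  · rw [Nat.card_congr (Subgroup.subgroupOfEquivOfLe hEL).toEquiv]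
    exact hE.2.2

theorem card_cent_dvd (t : ↥L) : Nat.card ↥(centralizer ({t} : Set ↥L)) ∣ Nat.card ↥(centralizer ({(t : G)} : Set G)) := by
  refine Subgroup.card_dvd_of_injective ((L.subtype.comp (centralizer ({t} : Set ↥L)).subtype).codRestrict _ ?_)
    (fun a b hab => ?_)
  · rintro ⟨x, hx⟩
    rw [mem_centralizer_singleton_iff] at hx ⊢
    exact congrArg Subtype.val hx
  · exact Subtype.ext (Subtype.ext (congrArg (fun z : ↥(centralizer ({(t : G)} : Set G)) => (z : G)) hab))

/-- a noncyclic elementary abelian `p`-subgroup of `L` is bad, if `p ∤ q + 1` -/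
theorem Cex.bad (C : Cex p H L) {r : ℕ} [hr : Fact r.Prime] (hL : HasFilt r ↥L) (hpr : p ≠ r) {q : ℕ}
    (hq : r ∣ q) (hpq : ¬ p ∣ q + 1) {E : Subgroup G} (hE : Sq p E) (hEL : E ≤ L) : Bad r p q (E.subgroupOf L) := by
  refine ⟨sq_subgroupOf hE hEL, fun K hK hK1 hEK => ?_, fun j J hj a ha ha1 hc => ?_⟩
  · refine C.no_local hL hpr hE (K := K.map L.subtype) (Subgroup.map_subtype_le _) (hK.map _)
      (fun h0 => hK1 ((Subgroup.map_eq_bot_iff_of_injective _ L.subtype_injective).1 h0)) ?_
    have h3 := (Subgroup.map_mono (f := L.subtype) hEK).trans (Subgroup.le_normalizer_map _)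
    rwa [Subgroup.subgroupOf_map_subtype, inf_eq_left.2 hEL] at h3
  · refine C.longP_not_dvd hL hpr hq hpq hj (dvd_trans ?_ (card_cent_dvd j))
    have h3 : a ∈ centralizer ({j} : Set ↥L) := by
      rw [mem_centralizer_singleton_iff]
      exact hc
    have h4 : orderOf (⟨a, h3⟩ : ↥(centralizer ({j} : Set ↥L))) = p := by
      rw [Subgroup.orderOf_mk]
      exact orderOf_eq_prime ((sq_subgroupOf hE hEL).2.1 a ha) ha1
    rw [← h4]
    exact orderOf_dvd_natCard _

/-- **A row with `p ∤ q² - 1`.** -/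
theorem Cex.row_false (C : Cex p H L) {r : ℕ} [hr : Fact r.Prime] (hL : HasFilt r ↥L) (hpr : p ≠ r) {q : ℕ}
    (hq : r ∣ q) (hpq : ¬ p ∣ q + 1) (hB : ∀ U : Sylow r ↥L, ¬ p ∣ Nat.card ↥(normalizer ((U : Subgroup ↥L) : Set ↥L)))
    (h1 : LongFix r p q ↥L) (h2 : OuterFix r p q ↥L) : False := by
  have hn := C.nrm
  have hout : ∀ x : G, x ^ p = 1 → x ∈ L := fun x hx => C.outer_false hL hpr hq hpq hB h2 hx
  obtain ⟨t, ht, ht2, E, hE, hEH, hEt⟩ := C.exists_invol
  have hEL : E ≤ L := fun x hx => hout x (hE.2.1 x hx)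
  rcases h1 _ (C.bad hL hpr hq hpq hE hEL) with ⟨j, J, hj, hd⟩ | ⟨s, hs, hd, hno⟩
  · exact C.longP_not_dvd hL hpr hq hpq hj (hd.trans (card_cent_dvd j))
  · have hso : orderOf (s : G) = 2 := by rw [Subgroup.orderOf_coe]; exact hs
    obtain ⟨E', hE', hEs⟩ := C.inv hso (hd.trans (card_cent_dvd s))
    have hEL' : E' ≤ L := fun x hx => hout x (hE'.2.1 x hx)
    refine hno _ ?_ (C.bad hL hpr hq hpq hE' hEL')
    intro x hx
    have h3 := mem_centralizer_singleton_iff.1 (hEs hx)
    rw [mem_centralizer_singleton_iff]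
    exact Subtype.ext h3

end

end Cfsg.Agent.H233.T
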